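import Cfsg.Agent.PQ.Val.Multi

/-!
# PQ, value formula: hooks of length `d` and further runners (helper38)

`hook_unit` : `E` lowers the entries of `β` by `d` and the entries of the tuples `γ i` by one (with weights `ω i`); then
`E ^ n (X β γ) = N • X c ground`, `c` of weight zero and of the colour of `β`, `N` prime to the large primes.
-/

set_option autoImplicit false

namespace Cfsg.Agent.PQ.Val

open Cfsg Cfsg.Agent.H614 Finset

variable {m d : ℕ}

theorem exists_sort (hd : 0 < d) (β : Fin m → ℕ) :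
    ∃ (r : Fin d → ℕ) (e : Fin m ≃ Σ c : Fin d, Fin (r c)), ∀ j, ((e j).1 : ℕ) = β j % d := by
  let f : Fin m → Fin d := fun j => ⟨β j % d, Nat.mod_lt _ hd⟩
  exact ⟨fun c => Fintype.card {j // f j = c}, (Equiv.sigmaFiberEquiv f).symm.trans
    (Equiv.sigmaCongrRight fun c => Fintype.equivFin _), fun _ => rfl⟩

section

variable {r : Fin d → ℕ} (e : Fin m ≃ Σ c : Fin d, Fin (r c))

/-- the tuple with given positions on the runners -/
def mk (x : Tup r) : Fin m → ℕ := fun j => d * x (e j).1 (e j).2 + (e j).1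

theorem mk_symm (x : Tup r) (c : Fin d) (j : Fin (r c)) : mk e x (e.symm ⟨c, j⟩) = d * x c j + c := by
  rw [mk, e.apply_symm_apply]

theorem mk_mod (x : Tup r) (j : Fin m) : mk e x j % d = (e j).1 := by
  rw [mk, Nat.mul_add_mod, Nat.mod_eq_of_lt (e j).1.2]

theorem mk_div (x : Tup r) (j : Fin m) : mk e x j / d = x (e j).1 (e j).2 := by
  rw [mk, Nat.mul_add_div (e j).1.pos, Nat.div_eq_of_lt (e j).1.2, add_zero]

theorem mk_inj {x : Tup r} (h : ∀ c, Function.Injective (x c)) : Function.Injective (mk e x) := by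
  intro a b hab
  obtain ⟨⟨c, a⟩, rfl⟩ := e.symm.surjective a
  obtain ⟨⟨c', b⟩, rfl⟩ := e.symm.surjective b
  have h1 := congrArg (· % d) hab
  simp only [mk_mod, e.apply_symm_apply] at h1
  obtain rfl : c = c' := Fin.ext h1
  rw [mk_symm, mk_symm] at hab
  rw [h c (Nat.eq_of_mul_eq_mul_left c.pos (Nat.add_right_cancel hab))]

theorem mk_dn (x : Tup r) (c : Fin d) (j : Fin (r c)) (h : 1 ≤ x c j) :
    mk e (Function.update x c (dn (x c) j 1)) = dn (mk e x) (e.symm ⟨c, j⟩) d := by
  funext a
  obtain ⟨⟨c', a⟩, rfl⟩ := e.symm.surjective a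
  rw [mk_symm]
  by_cases hc : c' = c
  · subst hc
    rw [Function.update_self]
    by_cases ha : a = j
    · subst ha
      rw [dn_self, dn_self, mk_symm, Nat.mul_sub, mul_one]
      have := Nat.mul_le_mul_left d h
      omega
    · rw [dn_ne _ _ ha, dn_ne _ _ (fun h => ha (by simpa using e.symm.injective h)), mk_symm]
  · rw [Function.update_of_ne hc, dn_ne _ _ (fun h => hc (congrArg Sigma.fst (e.symm.injective h))), mk_symm]

theorem mk_alt {W : Type*} [AddCommGroup W] {Φ : (Fin m → ℕ) → W} (h : Alt Φ) (x : Tup r) (c : Fin d) :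
    Alt fun γ => Φ (mk e (Function.update x c γ)) := by
  intro σ γ
  induction σ using Equiv.Perm.swap_induction_on generalizing γ with
  | one => simp [sg]
  | swap_mul σ a b hab ih =>
    have h1 : mk e (Function.update x c (γ ∘ Equiv.swap a b)) =
        mk e (Function.update x c γ) ∘ Equiv.swap (e.symm ⟨c, a⟩) (e.symm ⟨c, b⟩) := by
      funext j
      obtain ⟨⟨c', j⟩, rfl⟩ := e.symm.surjective j
      rw [Function.comp_apply, e.symm.injective.swap_apply, mk_symm]
      by_cases hc : c' = c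
      · subst hc
        rw [(sigma_mk_injective (β := fun c => Fin (r c)) (i := c')).swap_apply, mk_symm, Function.update_self,
          Function.update_self, Function.comp_apply]
      · rw [Equiv.swap_apply_of_ne_of_ne (fun h => hc (congrArg Sigma.fst h)) (fun h => hc (congrArg Sigma.fst h)), mk_symm,
          Function.update_of_ne hc, Function.update_of_ne hc]
    have h2 := ih (γ ∘ Equiv.swap a b)
    have h3 : sg (Equiv.swap a b) = -1 := by simp [sg, Equiv.Perm.sign_swap hab]
    simp only at h2 ⊢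
    rw [Equiv.Perm.coe_mul, ← Function.comp_assoc, h2, h1,
      h.swap _ fun h => hab (by simpa using e.symm.injective h), sg_mul, h3, smul_neg, neg_mul, one_mul, neg_smul]

theorem npairs_mk (x : Tup r) : npairs d (mk e x) = ∑ c, ∑ j : Fin (r c), (j : ℕ) := by
  have h1 := two_mul_npairs d (mk e x)
  have h2 : #{y : Fin m × Fin m | mk e x y.1 % d = mk e x y.2 % d} = ∑ c, r c * r c := by
    rw [Finset.card_filter, ← Equiv.sum_comp (e.symm.prodCongr e.symm), Fintype.sum_prod_type, Fintype.sum_sigma]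
    refine Finset.sum_congr rfl fun c _ => ?_
    simp only [Fintype.sum_sigma, Equiv.prodCongr_apply, Prod.map, mk_mod, e.apply_symm_apply, Fin.val_inj]
    simp [Finset.sum_ite_eq, apply_ite Finset.card]
  have h3 : m = ∑ c, r c := by simpa using Fintype.card_congr e
  have h4 : ∑ c, r c * r c = 2 * ∑ c, ∑ j : Fin (r c), (j : ℕ) + ∑ c, r c := by
    rw [Finset.mul_sum, ← Finset.sum_add_distrib]
    refine Finset.sum_congr rfl fun c _ => ?_
    rw [Fin.sum_univ_eq_sum_range (fun i => i), mul_comm 2, Finset.sum_range_id_mul_two]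
    cases r c with
    | zero => rfl
    | succ k => rw [Nat.add_sub_cancel]; ring
  omega

theorem sum_mk_div (x : Tup r) : ∑ j, mk e x j / d = ∑ c, ∑ j, x c j := by
  rw [← Equiv.sum_comp e.symm, Fintype.sum_sigma]
  refine Finset.sum_congr rfl fun c _ => Finset.sum_congr rfl fun j _ => ?_
  rw [mk_symm, Nat.mul_add_div c.pos, Nat.div_eq_of_lt c.2, add_zero]

end

variable {W : Type*} [AddCommGroup W] [Module ℂ W] {κ : Type*} [Fintype κ] [DecidableEq κ] {n : κ → ℕ}

/-- **the value formula** -/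
theorem hook_unit (hd : 0 < d) {X : (Fin m → ℕ) → Tup n → W} (h1 : ∀ γ, Alt fun β => X β γ)
    (h2 : ∀ β γ i, Alt fun δ => X β (Function.update γ i δ)) (E : Module.End ℂ W) (ω : κ → ℤ)
    (hE : ∀ β γ, E (X β γ) = (∑ j, if d ≤ β j then X (dn β j d) γ else 0) +
      ∑ i, ω i • ∑ j, if 1 ≤ γ i j then X β (Function.update γ i (dn (γ i) j 1)) else 0)
    {β : Fin m → ℕ} (hβ : Function.Injective β) {v : ℕ} (hv : ∑ j, β j / d = v + npairs d β)
    {γ : Tup n} (hγ : ∀ i, Function.Injective (γ i)) {w : κ → ℕ} (hw : ∀ i, ∑ j, γ i j = w i + ∑ j : Fin (n i), (j : ℕ)) :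
    ∃ (N : ℤ) (c : Fin m → ℕ), Function.Injective c ∧ (∀ j, c j % d = β j % d) ∧ ∑ j, c j / d = npairs d c ∧
      (E ^ (v + ∑ i, w i)) (X β γ) = N • X c (fun i => gr (n i)) ∧
      ∀ p : ℕ, p.Prime → v + ∑ i, w i < p → (∀ i, ¬ (p : ℤ) ∣ ω i) → ¬ (p : ℤ) ∣ N := by
  obtain ⟨r, e, he⟩ := exists_sort hd β
  let x : Tup r := fun c j => β (e.symm ⟨c, j⟩) / d
  have hx : mk e x = β := funext fun j => by
    show d * (β (e.symm (e j)) / d) + _ = _
    rw [e.symm_apply_apply, he, Nat.div_add_mod]
  have xi : ∀ c, Function.Injective (x c) := fun c a b hab => by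
    have : mk e x (e.symm ⟨c, a⟩) = mk e x (e.symm ⟨c, b⟩) := by rw [mk_symm, mk_symm, hab]
    rw [hx] at this
    simpa using e.symm.injective (hβ this)
  choose u hu using fun c => Nat.exists_eq_add_of_le' (sum_le_of_injective (xi c))
  have hu' : ∑ c, u c = v := by
    rw [← hx, npairs_mk, sum_mk_div, Finset.sum_congr rfl fun c _ => hu c, Finset.sum_add_distrib] at hv
    omega
  let tl : Tup (Sum.elim r n) → Tup r := fun Γ c => Γ (.inl c)
  let tr : Tup (Sum.elim r n) → Tup n := fun Γ c => Γ (.inr c)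
  have l1 : ∀ Γ (c : Fin d) (δ : Fin (r c) → ℕ), tl (Function.update Γ (.inl c) δ) = Function.update (tl Γ) c δ :=
    fun Γ c δ => funext fun a => by
      by_cases h : a = c
      · subst h; rw [Function.update_self]; exact Function.update_self _ _ _
      · rw [Function.update_of_ne h]; exact Function.update_of_ne (fun h' => h (Sum.inl.inj h')) _ _
  have l2 : ∀ Γ (c : κ) (δ : Fin (n c) → ℕ), tr (Function.update Γ (.inr c) δ) = Function.update (tr Γ) c δ :=
    fun Γ c δ => funext fun a => by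
      by_cases h : a = c
      · subst h; rw [Function.update_self]; exact Function.update_self _ _ _
      · rw [Function.update_of_ne h]; exact Function.update_of_ne (fun h' => h (Sum.inr.inj h')) _ _
  have l3 : ∀ Γ (c : Fin d) (δ : Fin (r c) → ℕ), tr (Function.update Γ (.inl c) δ) = tr Γ :=
    fun Γ c δ => funext fun a => Function.update_of_ne Sum.inr_ne_inl _ _
  have l4 : ∀ Γ (c : κ) (δ : Fin (n c) → ℕ), tl (Function.update Γ (.inr c) δ) = tl Γ :=
    fun Γ c δ => funext fun a => Function.update_of_ne Sum.inl_ne_inr _ _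
  obtain ⟨N, e1, e2⟩ := multi_unit (m := Sum.elim r n) (X := fun Γ => X (mk e (tl Γ)) (tr Γ))
    (by
      rintro Γ (c | i)
      · exact (funext fun δ : Fin (r c) → ℕ => congrArg₂ X (congrArg (mk e) (l1 Γ c δ)) (l3 Γ c δ)).symm ▸
          mk_alt e (h1 (tr Γ)) (tl Γ) c
      · exact (funext fun δ : Fin (n i) → ℕ => congrArg₂ X (congrArg (mk e) (l4 Γ i δ)) (l2 Γ i δ)).symm ▸
          h2 (mk e (tl Γ)) (tr Γ) i) E (Sum.elim (fun _ => 1) ω)
    (fun Γ => by
      rw [hE, Fintype.sum_sum_type, ← Equiv.sum_comp e.symm, Fintype.sum_sigma]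
      congr 1
      · refine Finset.sum_congr rfl fun c _ => ?_
        rw [Sum.elim_inl, one_smul]
        refine Finset.sum_congr rfl fun j _ => ?_
        by_cases h : 1 ≤ tl Γ c j
        · rw [if_pos (by rw [mk_symm]; exact (Nat.le_mul_of_pos_right d h).trans (Nat.le_add_right _ _)),
            ← mk_dn e _ c j h, ← l1, ← l3 Γ c (dn (tl Γ c) j 1)]
          exact (if_pos h).symm
        · rw [if_neg (by rw [mk_symm, show tl Γ c j = 0 by omega]; exact not_le.2 (by simp))]
          exact (if_neg h).symm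
      · refine Finset.sum_congr rfl fun c _ => congrArg (ω c • ·) (Finset.sum_congr rfl fun j _ => ?_)
        rw [← l2, ← l4 Γ c (dn (tr Γ c) j 1)]
        rfl)
    (w := Sum.elim u w) (β := fun i => match i with | .inl c => x c | .inr i => γ i)
    (by rintro (c | i); exacts [xi c, hγ i]) (by rintro (c | i); exacts [hu c, hw i])
  simp only [Fintype.sum_sum_type, Sum.elim_inl, Sum.elim_inr, hu'] at e1 e2
  refine ⟨N, mk e fun c => gr (r c), mk_inj e fun c => Fin.val_injective, fun j => by rw [mk_mod, he], ?_, ?_,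
    fun p hp h3 h4 => e2 p hp h3 ?_⟩
  · rw [npairs_mk, sum_mk_div]; rfl
  · rw [← hx]; exact e1
  · rintro (c | i)
    · exact (Nat.prime_iff_prime_int.1 hp).not_dvd_one
    · exact h4 i

end Cfsg.Agent.PQ.Val
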