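import Cfsg.Agent.PQ.Val.ISer

/-!
# PQ theta, box INT: conjugation of `T` by a multiplication operator (helper38)
-/

set_option autoImplicit false

namespace Cfsg.Agent.PQ.Val

open Finset PowerSeries Module Cfsg.Agent.PQ.Th Cfsg.Agent.PQ.Rel
open scoped ComplexConjugate

attribute [local instance] Loc.fI Loc.dI

variable {V : Type} [AddCommGroup V] [Module ℂ V] {H : HS V} {Cy : Cyc H} (P : Loc Cy)

/-- conjugation of the coefficients -/
noncomputable def cj : ℂ⟦X⟧ →+* ℂ⟦X⟧ := PowerSeries.map (starRingEnd ℂ)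

theorem cj_cj (s : ℂ⟦X⟧) : cj (cj s) = s := PowerSeries.ext fun t => by simp [cj]

/-- the multiplication operator -/
noncomputable def Nn (c : P.I → ℂ⟦X⟧) : (End ℂ V)⟦X⟧ := ex P.mul fun v => ∏ i, c i ^ (P.d i * v i)

/-- the creation part -/
noncomputable def Ep (c : P.I → ℂ⟦X⟧) (a : ℕ) : (End ℂ V)⟦X⟧ := nv (fun j => ex (P.D j) fun i => c i ^ j - 1) a

/-- the annihilation part -/
noncomputable def Em (c : P.I → ℂ⟦X⟧) (a : ℕ) : (End ℂ V)⟦X⟧ := nv (fun j => ex (P.Ds j) fun i => c i ^ j - 1) a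

theorem Nn_mul {c c' : P.I → ℂ⟦X⟧} (h : ∀ i, c i * c' i = 1) : Nn P c * Nn P c' = 1 := by
  rw [Nn, Nn, ← ex_alg]
  simp only [← Finset.prod_mul_distrib, ← mul_pow, h, one_pow, Finset.prod_const_one]
  exact (ex_C P.mul.toLinearMap 1).trans (by simp)

theorem Nn_adj (c : P.I → ℂ⟦X⟧) : Ad H (Nn P c) (Nn P fun i => cj (c i)) := fun t => by
  simp only [Nn, coeff_ex, ← map_pow, ← map_prod]
  exact P.mul_adj _

theorem Nn_T0 (c : P.I → ℂ⟦X⟧) (e : ℤ) : Commute (Nn P c) (C (P.T0 e)) := PowerSeries.ext fun t => by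
  rw [coeff_mul_C, coeff_C_mul, Nn, coeff_ex, P.T0_mul]

theorem Nn_gr (c : P.I → ℂ⟦X⟧) (m : ℤ) : Mp (Nn P c) (H.gr m) (H.gr m) := fun t u hu => by
  rw [Nn, coeff_ex]
  simpa using hom_gr (P.mul_hom _) m u hu

theorem Nn_D (c : P.I → ℂ⟦X⟧) (j : ℕ) : Nn P c * C (P.D j 1) = ex (P.D j) (fun i => c i ^ j) * Nn P c := by
  rw [← ex_C (P.D j) 1, ex_sum, ex_sum, Finset.mul_sum, Finset.sum_mul]
  refine Finset.sum_congr rfl fun i _ => ?_
  rw [Pi.one_apply, map_one, map_one, one_mul]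
  by_cases h : P.d i ∣ j
  · have h1 : Nn P c * C (P.D j (Pi.single i 1)) = C (P.D j (Pi.single i 1)) *
        ex P.mul fun v => c i ^ j * ∏ l, c l ^ (P.d l * v l) := PowerSeries.ext fun t => by
      rw [coeff_mul_C, coeff_C_mul, Nn, coeff_ex, coeff_ex, P.mul_D]
      congr 2
      funext v
      simp only [Pi.add_apply, mul_add, pow_add, Finset.prod_mul_distrib]
      rw [mul_comm, Finset.prod_eq_single i (fun l _ hl => by simp [hl]) (by simp), Pi.single_eq_same,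
        Nat.mul_div_cancel' h]
    rw [h1, (io_comm _ _).eq, mul_assoc]
    exact congrArg _ (ex_mul P.mul.toLinearMap _ _)
  · rw [P.D_ndvd j i h]; simp

theorem exD_comm (j l : ℕ) (α β : P.I → ℂ⟦X⟧) : Commute (ex (P.D j) α) (ex (P.D l) β) :=
  comm_of_coeff fun _ _ => by rw [coeff_ex, coeff_ex]; exact P.DD _ _ _ _

theorem K1 (c : P.I → ℂ⟦X⟧) (a : ℕ) : Nn P c * C (nw (fun j => P.D j 1) a) =
    ∑ x ∈ antidiagonal a, Ep P c x.1 * C (nw (fun j => P.D j 1) x.2) * Nn P c := by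
  simp only [nw_eq, C_nv, Ep]
  rw [nv_conj (Q := fun j => ex (P.D j) fun i => c i ^ j) fun j => Nn_D P c _, ← Finset.sum_mul, ← nv_add]
  · congr 2
    funext j
    rw [← ex_C (P.D j) 1, ← ex_add]
    simp
  · intro i j
    rw [← ex_C (P.D j) 1]
    exact exD_comm P _ _ _ _

theorem U_adj (a : ℕ) : H.Adj (nw (fun j => P.D j 1) a) (nw (fun j => P.Ds j 1) a) := by
  rw [nw_eq, nw_eq]
  exact adj_nw (fun _ => P.D_adj _ _) (fun _ _ => P.DD _ _ _ _) a

theorem Ep_adj (c : P.I → ℂ⟦X⟧) (a : ℕ) : Ad H (Ep P c a) (Em P c a) :=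
  Ad.nv (fun _ _ => by rw [coeff_ex, coeff_ex]; exact P.D_adj _ _) (fun _ _ => exD_comm P _ _ _ _) a

theorem K2 (c : P.I → ℂ⟦X⟧) (a : ℕ) : C (nw (fun j => P.Ds j 1) a) * Nn P (fun i => cj (c i)) =
    ∑ x ∈ antidiagonal a, Nn P (fun i => cj (c i)) * (C (nw (fun j => P.Ds j 1) x.2) * Em P c x.1) :=
  ((Nn_adj P c).mul (Ad.C (U_adj P a))).unique
    (K1 P c a ▸ Ad.sum _ fun _ _ => ((Ep_adj P c _).mul (Ad.C (U_adj P _))).mul (Nn_adj P c))

/-- series of degree `d` -/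
def GrS (H : HS V) (d : ℤ) : Submodule ℂ (End ℂ V)⟦X⟧ := ⨅ m, MpS (H.gr m) (H.gr (m + d))

theorem mem_GrS {A : (End ℂ V)⟦X⟧} {d : ℤ} : A ∈ GrS H d ↔ ∀ t, Gr H (coeff t A) d := by
  rw [GrS, Submodule.mem_iInf]
  exact ⟨fun h t m => h m t, fun h m t => h t m⟩

theorem Ep_gr (c : P.I → ℂ⟦X⟧) (a : ℕ) (t : ℕ) : Gr H (coeff t (Ep P c a)) (P.k * a) := by
  refine mem_GrS.1 (nv_mem (fun n => GrS H (P.k * n)) (mem_GrS.2 fun t m => by simpa using Mp.one (U := H.gr m) t)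
    (fun i n x hx => mem_GrS.2 fun t => ?_) a) t
  rw [coeff_mul]
  refine Gr.sum _ fun y _ => (Gr.mul (by rw [coeff_ex]; exact hom_gr (P.D_hom _ _)) (mem_GrS.1 hx _)).cast ?_
  push_cast; ring

theorem Em_gr (c : P.I → ℂ⟦X⟧) (a : ℕ) (t : ℕ) : Gr H (coeff t (Em P c a)) (-(P.k * a)) :=
  adj_gr (Ep_adj P c a t) (Ep_gr P c a t)

theorem U_gr (a : ℕ) : Gr H (nw (fun j => P.D j 1) a) (P.k * a) := by
  rw [nw_eq]
  exact nv_ind (Q := fun j => P.D j 1) (fun n x _ => Gr H x (P.k * n)) (by simpa using Gr.one) (fun _ => Gr.zero _)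
    (fun _ _ _ _ _ h h' => h.add h') (fun _ _ _ _ h => h.smul _)
    (fun _ _ h => ((hom_gr (P.D_hom _ _)).mul h).cast (by push_cast; ring)) a

theorem Us_gr (a : ℕ) : Gr H (nw (fun j => P.Ds j 1) a) (-(P.k * a)) := adj_gr (U_adj P a) (U_gr P a)

theorem fac' (e m : ℤ) {N : ℕ} (h1 : m < N) (h2 : m + e < N) {u : V} (hu : u ∈ H.gr m) :
    Cy.T e u = (∑ a ∈ range N, ∑ b ∈ range N,
      nw (fun j => P.D j 1) a * P.T0 (e - P.k * a + P.k * b) * nw (fun j => P.Ds j 1) b) u := by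
  refine ext_sup (fun x hx => ?_) hu
  have hk := P.k_pos
  simp only [LinearMap.sum_apply, End.mul_apply]
  rw [P.fac, Finset.sum_subset (range_subset_range.2 (show (H.rk x + e).toNat + 1 ≤ N + 1 by omega)), Finset.sum_range_succ,
    Finset.sum_eq_zero (s := range _) (f := fun b : ℕ => nw (fun j => P.D j 1) N _), add_zero]
  · refine Finset.sum_congr rfl fun a _ => Finset.sum_subset (range_subset_range.2 (by omega)) fun b _ hb => ?_
    rw [mem_range] at hb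
    rw [(Us_gr P b).kill (b_gr x) (by nlinarith), map_zero, map_zero]
  · intro b _
    rw [(Gr.of (P.T0_gr _)).kill (Us_gr P b _ _ (b_gr x)) (by nlinarith), map_zero]
  · intro a _ ha
    rw [mem_range] at ha
    refine Finset.sum_eq_zero fun b _ => ?_
    rw [(Gr.of (P.T0_gr _)).kill (Us_gr P b _ _ (b_gr x)) (by have : H.rk x + e < a := by omega
                                                              nlinarith), map_zero]

theorem sand {A B : (End ℂ V)⟦X⟧} {F G : End ℂ V} {S T : Set V} (hB : Mp B S T) (h : ∀ y ∈ T, F y = G y) {u : V} (hu : u ∈ S)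
    (t : ℕ) : coeff t (A * C F * B) u = coeff t (A * C G * B) u := by
  simp only [coeff_mul_apply, coeff_mul_C, End.mul_apply]
  exact Finset.sum_congr rfl fun x _ => by rw [h _ (hB _ _ hu)]

theorem kill {A B : (End ℂ V)⟦X⟧} {S : Set V} {n : ℤ} (hB : Mp B S (H.gr n)) (hn : n < 0) {u : V} (hu : u ∈ S) (t : ℕ) :
    coeff t (A * B) u = 0 := by
  rw [coeff_mul_apply]
  exact Finset.sum_eq_zero fun x _ => by rw [gr_neg hn (hB _ _ hu), map_zero]

/-- **conjugation of `T`** -/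
theorem conj_T {c c' : P.I → ℂ⟦X⟧} (h : ∀ i, c i * cj (c' i) = 1) (e m : ℤ) {N : ℕ} (h1 : m < N) (h2 : m + e < N) {u : V}
    (hu : u ∈ H.gr m) (t : ℕ) : coeff t (Nn P c * C (Cy.T e) * Nn P fun i => cj (c' i)) u =
      ∑ a ∈ range N, ∑ b ∈ range N, coeff t (Ep P c a * C (Cy.T (e - P.k * a + P.k * b)) * Em P c' b) u := by
  have hk := P.k_pos
  let g : ℕ → ℕ → ℕ → ℕ → V := fun a1 a2 b1 b2 => coeff t (Ep P c a1 * C (nw (fun j => P.D j 1) a2) *
    (C (P.T0 (e - P.k * (a1 + a2 : ℕ) + P.k * (b1 + b2 : ℕ))) * (C (nw (fun j => P.Ds j 1) b2) * Em P c' b1))) u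
  have hm : ∀ b1 b2 : ℕ, Mp (C (nw (fun j => P.Ds j 1) b2) * Em P c' b1) (H.gr m) (H.gr (m + -(P.k * b1) + -(P.k * b2))) :=
    fun b1 b2 => (Mp.C (Us_gr P b2 _)).mul fun t => Em_gr P c' b1 t m
  have hL : coeff t (Nn P c * C (Cy.T e) * Nn P fun i => cj (c' i)) u =
      ∑ a ∈ range N, ∑ x ∈ antidiagonal a, ∑ b ∈ range N, ∑ y ∈ antidiagonal b, g x.1 x.2 y.1 y.2 := by
    rw [sand (Nn_gr P _ m) (fun y hy => fac' P e m h1 h2 hy) hu]
    simp only [map_sum, Finset.mul_sum, Finset.sum_mul, LinearMap.sum_apply]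
    refine Finset.sum_congr rfl fun a _ => ?_
    rw [Finset.sum_comm]
    refine Finset.sum_congr rfl fun b _ => ?_
    rw [map_mul C, map_mul C, ← mul_assoc, ← mul_assoc, mul_assoc _ (C (nw (fun j => P.Ds j 1) b)), K2, K1]
    simp only [map_sum, Finset.mul_sum, Finset.sum_mul, LinearMap.sum_apply]
    rw [Finset.sum_comm]
    refine Finset.sum_congr rfl fun x hx => Finset.sum_congr rfl fun y hy => ?_
    simp only [g, mem_antidiagonal.1 hx, mem_antidiagonal.1 hy]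
    rw [mul_assoc _ (Nn P c), (Nn_T0 P c _).eq, mul_assoc, mul_assoc (C _), ← mul_assoc (Nn P c), Nn_mul P h, one_mul]
  rw [hL, tri_sq (f := fun a1 a2 => ∑ b ∈ range N, ∑ y ∈ antidiagonal b, g a1 a2 y.1 y.2)]
  · refine Finset.sum_congr rfl fun a1 _ => ?_
    rw [Finset.sum_congr rfl fun a2 _ => tri_sq (f := g a1 a2) fun b1 b2 hb => ?_, Finset.sum_comm]
    · refine Finset.sum_congr rfl fun b1 _ => ?_
      rw [sand (fun t => Em_gr P c' b1 t m) (fun y hy => fac' P _ _ (N := N) (by nlinarith) (by nlinarith) hy) hu]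
      simp only [map_sum, Finset.mul_sum, Finset.sum_mul, LinearMap.sum_apply]
      refine Finset.sum_congr rfl fun a2 _ => Finset.sum_congr rfl fun b2 _ => ?_
      simp only [g, map_mul, mul_assoc]
      rw [show e - P.k * a1 + P.k * b1 - P.k * a2 + P.k * b2 = e - P.k * (a1 + a2 : ℕ) + P.k * (b1 + b2 : ℕ) by push_cast; ring]
    · simp only [g, ← mul_assoc _ (C (P.T0 _))]
      exact kill (hm b1 b2) (by have : (N : ℤ) ≤ b1 + b2 := by exact_mod_cast hb
                                nlinarith) hu t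
  · intro a1 a2 ha
    refine Finset.sum_eq_zero fun b _ => Finset.sum_eq_zero fun y _ => ?_
    refine kill ((Mp.C (Gr.of (P.T0_gr _) _)).mul (hm _ _)) ?_ hu t
    have : (N : ℤ) ≤ a1 + a2 := by exact_mod_cast ha
    push_cast
    nlinarith

end Cfsg.Agent.PQ.Val
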