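import Cfsg.Agent.PQ.Val.IPp
import Cfsg.Agent.PQ.Val.IConj

/-!
# PQ theta, box INT: the conjugated vertex operator is integral on the vacuum lattice (helper38)
-/

set_option autoImplicit false
set_option maxHeartbeats 400000

namespace Cfsg.Agent.PQ.Val

open Finset PowerSeries Module Cfsg.Agent.PQ.Th Cfsg.Agent.PQ.Rel
open scoped ComplexConjugate

attribute [local instance] Loc.fI Loc.dI

variable {V : Type} [AddCommGroup V] [Module ℂ V] {H : HS V} {Cy : Cyc H}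

theorem ip_conj (u v : V) : H.ip u v = conj (H.ip v u) :=
  sup_le (P := fun _ => True) (S := {
    carrier := {u | H.ip u v = conj (H.ip v u)}
    zero_mem' := by simp [ip_zero_left, ip_zero_right]
    add_mem' := fun {a b} (ha : _ = _) (hb : _ = _) => by
      show _ = _
      rw [ip_add_left, ip_add_right, map_add, ha, hb]
    smul_mem' := fun c {a} (ha : _ = _) => by
      show _ = _
      rw [ip_smul_left, ip_smul_right, map_mul, ha, Complex.conj_conj] })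
    (fun i _ => show _ = _ by rw [ip_b_left, ip_b_right]) fun _ h => (h trivial).elim

theorem ip_of_perp {W : Submodule ℂ V} {y z w : V} (h : y - z ∈ perp H W) (hw : w ∈ W) : H.ip y w = H.ip z w := by
  rw [← sub_add_cancel y z, ip_add_left, h w hw, zero_add]

theorem adj_itg {A B : End ℂ V} (h : H.Adj A B) (hA : H.Itg A) : H.Itg B := fun u hu i => by
  rw [← ip_b_right, adj_symm h]
  exact ip_int hu (hA _ (b_Z i))

theorem single_Z {M : ℤ} {u : V} : Finsupp.single M u ∈ H.fock.Z ↔ u ∈ H.Z := by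
  refine ⟨fun h i => ?_, fun h x => ?_⟩
  · simpa only [fock_repr, Finsupp.single_eq_same] using h ⟨M, i⟩
  · obtain ⟨N, i⟩ := x
    rw [fock_repr]
    by_cases e : M = N
    · subst e
      rw [Finsupp.single_eq_same]
      exact h i
    · exact ⟨0, by simp [Finsupp.single_eq_of_ne (Ne.symm e)]⟩

/-- integral vectors of rank `m` -/
def Lz (H : HS V) (m : ℤ) : AddSubgroup V := (H.gr m).toAddSubgroup ⊓ H.Z

/-- odd vectors of vacuum type -/
noncomputable def V0 (Cy : Cyc H) (m : ℤ) : Submodule ℂ V := Sv H m 0 ⊓ Cy.Vac.comap (Finsupp.lsingle 0)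

theorem V0_vac {m : ℤ} {u : V} (hu : u ∈ V0 Cy m) : Finsupp.single 0 u ∈ Cy.Vac := hu.2

theorem T_Sv (Cy : Cyc H) (d r δ : ℤ) : ∀ y ∈ Sv H r δ, Cy.T d y ∈ Sv H (r + d) (1 - δ) := fun y hy =>
  add_mem (R_Sv Cy d r δ y hy) (L_Sv Cy d r δ y hy)

theorem T_Lz (Cy : Cyc H) (d m : ℤ) : ∀ y ∈ Lz H m, Cy.T d y ∈ Lz H (m + d) := fun y hy => by
  have h := Cy.R_adj (-d)
  rw [neg_neg] at h
  exact ⟨add_mem (hom_gr (Cy.R_hom d) _ _ hy.1) ((adj_gr h (hom_gr (Cy.R_hom _))).cast (neg_neg d) _ _ hy.1),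
    add_mem (Cy.R_itg d _ hy.2) (adj_itg h (Cy.R_itg _) _ hy.2)⟩

variable (P : Loc Cy)

/-- the creation part with the hat -/
noncomputable def Eh (c : P.I → ℂ⟦X⟧) (a : ℕ) : (End ℂ (ℤ →₀ V))⟦X⟧ := nv (fun j => ex (DhL P j) fun i => c i ^ j - 1) a

/-- the part which commutes with the fermions -/
noncomputable def Zp (c : P.I → ℂ⟦X⟧) (a : ℕ) : (End ℂ (ℤ →₀ V))⟦X⟧ := nv (fun j => ex (pp P j) fun i => c i ^ j - 1) a

/-- the multiplication operator is integral in ranks `≤ K` -/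
def It (K : ℤ) (c : P.I → ℂ⟦X⟧) : Prop := ∀ m ≤ K, Mp (Nn P c) (Lz H m) (Lz H m)

theorem It.cj {K : ℤ} {c : P.I → ℂ⟦X⟧} (h : It P K c) : It P K fun i => cj (c i) := fun m hm t u hu =>
  ⟨Nn_gr P _ m t u hu.1, fun i => by
    by_cases e : (H.rk i : ℤ) = m
    · rw [← ip_b_right, adj_symm (Nn_adj P c t)]
      exact ip_int hu.2 (h m hm t _ ⟨b_mem e, b_Z i⟩).2
    · exact ⟨0, by rw [Nn_gr P _ m t u hu.1 i e, Int.cast_zero]⟩⟩

theorem sg_sq (n : ℕ) : sg P 0 ^ n * sg P 0 ^ n = 1 := by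
  rw [← mul_pow, sg]; split_ifs <;> norm_num

theorem sg_int (n : ℕ) : ∃ z : ℤ, sg P 0 ^ n = z := by
  unfold sg; split_ifs
  exacts [⟨(-1) ^ n, by norm_num⟩, ⟨1, by norm_num⟩]

theorem sg_one : sg P 1 = 1 := by unfold sg; split_ifs <;> norm_num

theorem Eh_Ep (c : P.I → ℂ⟦X⟧) (a : ℕ) {δ : ℤ} (hδ : δ = 0 ∨ δ = 1) (M : ℤ) : ∀ t r, ∀ u ∈ Sv H r δ,
    coeff t (Eh P c a) (Finsupp.single M u) = sg P δ ^ a • Finsupp.single M (coeff t (Ep P c a) u) ∧
      coeff t (Ep P c a) u ∈ Sv H (r + P.k * a) δ := by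
  refine nv_ind (fun n (x : (End ℂ (ℤ →₀ V))⟦X⟧) (y : (End ℂ V)⟦X⟧) => ∀ t r, ∀ u ∈ Sv H r δ, coeff t x (Finsupp.single M u) =
    sg P δ ^ n • Finsupp.single M (coeff t y u) ∧ coeff t y u ∈ Sv H (r + P.k * n) δ) (fun t r u hu => ?_)
    (fun _ _ _ _ _ => by simp) (fun _ _ _ _ _ h h' t r u hu => ?_) (fun _ _ _ _ h t r u hu => ?_) (fun i n h t r u hu => ?_) a
  · rw [coeff_one, coeff_one]; split_ifs <;> simp [hu]
  · simp only [map_add, LinearMap.add_apply, (h t r u hu).1, (h' t r u hu).1, Finsupp.single_add, smul_add, true_and]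
    exact add_mem (h t r u hu).2 (h' t r u hu).2
  · simp only [coeff_smul, LinearMap.smul_apply, (h t r u hu).1, ← Finsupp.smul_single]
    exact ⟨smul_comm _ _ _, Submodule.smul_mem _ _ (h t r u hu).2⟩
  · simp only [coeff_mul_apply, coeff_ex]
    refine ⟨?_, sum_mem fun x _ => ?_⟩
    · rw [Finsupp.single_finsetSum, Finset.smul_sum]
      refine Finset.sum_congr rfl fun x _ => ?_
      rw [(h _ r u hu).1, map_smul]
      refine (congrArg _ (lf_single _ _ _)).trans ?_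
      rw [LinearMap.comp_apply, LinearMap.mulLeft_apply, End.mul_apply, hat_Sv P _ hδ (D_Sv P _ _ _ _ _ (h _ r u hu).2), ← Finsupp.smul_single, smul_smul,
        ← pow_add, show n + (i + 1) = i + n + 1 by ring]
    · convert D_Sv P (i + 1) _ _ _ _ (h _ r u hu).2 using 2
      push_cast; ring

variable {P} {A : Ar P.k P.I}

theorem Em_V0 (hR : Rel P) (c : P.I → ℂ⟦X⟧) (a : ℕ) (r : ℤ) : Mp (Em P c a) (V0 Cy r) (V0 Cy (r + -(P.k * a))) := by
  refine (Submodule.mem_iInf _).1 (nv_mem (fun n => ⨅ r, MpS (V0 Cy r) (V0 Cy (r + -(P.k * n))))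
    ((Submodule.mem_iInf _).2 fun r t => by simpa using Mp.one (U := V0 Cy r) t)
    (fun i n x hx => (Submodule.mem_iInf _).2 fun r => Mp.mul (fun t u hu => ?_) ((Submodule.mem_iInf _).1 hx r)) a) r
  rw [coeff_ex]
  have h1 := Ds_Sv P (i + 1) (fun l => coeff t (c l ^ (i + 1) - 1)) _ _ _ hu.1
  refine ⟨by rwa [show r + -(P.k * n : ℤ) + -(P.k * (i + 1 : ℕ)) = r + -(P.k * (i + n + 1 : ℕ)) by push_cast; ring] at h1, ?_⟩
  have h2 := Cy.Vac.smul_mem (sg P 0 ^ (i + 1))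
    (Dsh_vac hR (S := Sea) (sig_sea P (Nat.succ_pos i)) (fun l => coeff t (c l ^ (i + 1) - 1)) hu.2)
  rwa [Finsupp.lsingle_apply, Loc.Dsh, lf_single, End.mul_apply, hat_Sv P _ (.inl rfl) h1, ← Finsupp.smul_single, smul_smul, sg_sq,
    one_smul] at h2

theorem Eh_Zp (hC : CAR Cy) (hR : Rel P) {S : Site → Prop} (hS : ∀ j, 0 < j → ∀ c, S (P.sig j c) → S c) (c : P.I → ℂ⟦X⟧) (a t : ℕ)
    (y : ℤ →₀ V) {w : ℤ →₀ V} (hw : w ∈ VacS Cy S) : H.fock.ip (coeff t (Eh P c a) y) w = H.fock.ip (coeff t (Zp P c a) y) w := by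
  refine ip_of_perp (nv_sub_mem (MpS Set.univ (perp H.fock (VacS Cy S))) (fun j x hx => Mp.mul (fun t u hu v hv => ?_) hx)
    (fun j n => Mp.mul (T := Set.univ) (fun t u _ => ?_) fun _ _ _ => trivial) a t y trivial) hw
  · rw [coeff_ex]
    exact (hR.adj _ _ _ _).trans (hu _ (Dsh_vac hR (hS _ (Nat.succ_pos j)) _ hv))
  · rw [map_sub, coeff_ex, coeff_ex, pp, LinearMap.sub_apply (DhL P _), sub_sub_cancel]
    exact Submodule.smul_mem _ _ (aa_perp P hC (Nat.succ_pos j) (hS _ (Nat.succ_pos j)) u)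

theorem Zp_comm {B : End ℂ (ℤ →₀ V)} (h : ∀ j α, Commute (pp P j α) B) (c : P.I → ℂ⟦X⟧) (a t : ℕ) :
    Commute (coeff t (Zp P c a)) B := by
  have : C B * Zp P c a = Zp P c a * C B := nv_conj (fun j => PowerSeries.ext fun t => by
    rw [coeff_mul_C, coeff_C_mul, coeff_ex, (h _ _).eq]) a
  rw [Commute, SemiconjBy, ← coeff_mul_C, ← coeff_C_mul, this]

theorem Zp_vac (hR : Rel P) (hH : Hei P A) (c : P.I → ℂ⟦X⟧) (a t : ℕ) {v : ℤ →₀ V} (hv : v ∈ Cy.Vac) :
    coeff t (Zp P c a) v ∈ Cy.Vac :=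
  vac_of_comm (fun x => Zp_comm (fun j α => pp_ps hR hH j α x) c a t) (fun x => Zp_comm (fun j α => pp_pt hR hH j α x) c a t) hv

theorem Zp_hm (hC : CAR Cy) (c : P.I → ℂ⟦X⟧) (a : ℕ) (s : ℤ × ℤ) : Mp (Zp P c a) (Sec H s) (Sec H (s + (0, (P.k * a : ℤ)))) := by
  refine (Submodule.mem_iInf _).1 (nv_mem (fun n => ⨅ s, MpS (Sec H s) (Sec H (s + (0, (P.k * n : ℤ)))))
    ((Submodule.mem_iInf _).2 fun r t => by simpa [Prod.mk_zero_zero] using Mp.one (U := Sec H r) t)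
    (fun i n x hx => (Submodule.mem_iInf _).2 fun r => Mp.mul (fun t u hu => ?_) ((Submodule.mem_iInf _).1 hx r)) a) s
  rw [coeff_ex]
  have := pp_hm P hC (i + 1) (fun l => coeff t (c l ^ (i + 1) - 1)) _ _ hu
  rwa [add_assoc, show ((0 : ℤ), (P.k * n : ℤ)) + (0, (P.k * (i + 1 : ℕ) : ℤ)) = (0, (P.k * (i + n + 1 : ℕ) : ℤ)) from
    Prod.ext rfl (by simp only [Prod.snd_add]; push_cast; ring)] at this

theorem pair_T (hC : CAR Cy) (hR : Rel P) (hH : Hei P A) (c : P.I → ℂ⟦X⟧) (a t : ℕ) (x : ℤ) {r : ℤ} {u : V} (hu : u ∈ V0 Cy r)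
    {w : ℤ →₀ V} (hw : w ∈ Cy.Vac) :
    H.fock.ip (Finsupp.single 1 (coeff t (Ep P c a) (Cy.T x u))) (Cy.ps (true, 0) w) =
      if x = 0 then H.fock.ip (coeff t (Zp P c a) (Finsupp.single 0 u)) w else 0 := by
  have h1 := (Eh_Ep P c a (.inr rfl) 1 t _ _ (T_Sv Cy x r 0 u hu.1)).1
  rw [sg_one, one_pow, one_smul] at h1
  have h2 : Cy.ps (true, 0) w ∈ VacS Cy fun c => c.2 ≤ 0 := by
    refine ⟨fun y hy => ?_, fun y hy => ?_⟩
    · have := LinearMap.congr_fun (hC.ss y (true, 0)) w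
      rw [LinearMap.add_apply, End.mul_apply, End.mul_apply, LinearMap.zero_apply] at this
      by_cases e : y = (true, 0)
      · subst e
        rwa [← two_smul ℂ, smul_eq_zero_iff_right two_ne_zero] at this
      · rwa [hw.1 y, map_zero, add_zero] at this
        obtain ⟨b, z⟩ := y
        cases b <;> simp only [Sea, Prod.mk.injEq] at * <;> simp_all
        omega
    · have := anti hC (show (true, (0 : ℤ)) ≠ y by rintro rfl; simp at hy) w
      rw [hw.2 y, map_zero, zero_eq_neg] at this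
      · exact this
      · unfold Sea; split_ifs <;> omega
  have h3 : ∀ y, H.fock.ip (coeff t (Zp P c a) (Cy.ps y (Finsupp.single 0 u))) (Cy.ps (true, 0) w) =
      if y = (true, 0) then H.fock.ip (coeff t (Zp P c a) (Finsupp.single 0 u)) w else 0 := fun y => by
    have := LinearMap.congr_fun (hC.st y (true, 0)) (coeff t (Zp P c a) (Finsupp.single 0 u))
    rw [LinearMap.add_apply, End.mul_apply, End.mul_apply, (Zp_vac hR hH c a t (V0_vac hu)).2 _ (by simp [Sea]), map_zero,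
      zero_add] at this
    rw [← End.mul_apply, (Zp_comm (fun j α => pp_ps hR hH j α y) c a t).eq, End.mul_apply, ← adj_symm (hC.adj _), this]
    split_ifs
    exacts [rfl, ip_zero_left _]
  rw [← h1, Eh_Zp hC hR (fun j hj y hy => ((sig_lt P hj y).trans_le hy).le) c a t _ h2, T_vac hC hu.1 hu.2, map_add,
    ip_add_left, h3, h3]
  simp

theorem mem_of_sum {ι : Type} [DecidableEq ι] {s : Finset ι} {f : ι → ℂ} {p : ι} (hp : p ∈ s) (h : ∃ n : ℤ, ∑ i ∈ s, f i = n)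
    (h' : ∀ i ∈ s, i ≠ p → f i ∈ (Int.castRingHom ℂ).range) : ∃ n : ℤ, f p = n := by
  rw [← Finset.add_sum_erase _ _ hp] at h
  obtain ⟨n, hn⟩ := h
  obtain ⟨m, hm⟩ : ∑ i ∈ s.erase p, f i ∈ (Int.castRingHom ℂ).range :=
    sum_mem fun i hi => h' i (mem_erase.1 hi).2 (mem_erase.1 hi).1
  exact ⟨n - m, by rw [Int.cast_sub, ← hn, ← hm]; simp⟩

theorem ip_sum_left {ι : Type} (s : Finset ι) (f : ι → V) (v : V) : H.ip (∑ i ∈ s, f i) v = ∑ i ∈ s, H.ip (f i) v :=
  map_sum (AddMonoidHom.mk' (fun u => H.ip u v) fun _ _ => ip_add_left _ _ _) _ _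

/-- **integrality on the vacuum lattice** -/
theorem core (hC : CAR Cy) (hR : Rel P) (hH : Hei P A) (K : ℤ) (E : ℕ) : (E : ℤ) ≤ K → ∀ c c' : P.I → ℂ⟦X⟧,
    (∀ i, c i * cj (c' i) = 1) → It P K c → It P K c' → ∀ m a : ℕ, m + P.k * a = E → ∀ u ∈ V0 Cy m, u ∈ H.Z → ∀ t,
      coeff t (Zp P c a) (Finsupp.single 0 u) ∈ H.fock.Z := by
  have hk := P.k_pos
  induction E using Nat.strong_induction_on with
  | _ E ihE =>
  intro hK c c' hc h1 h2 m
  induction m using Nat.strong_induction_on with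
  | _ m ihm =>
  intro a ha u hu hz t
  rcases Nat.eq_zero_or_pos a with rfl | h0
  · rw [Zp, nv_zero]
    exact Mp.one (U := H.fock.Z) t _ (single_Z.2 hz)
  have hm : m < E := by nlinarith
  have hs : ∀ {r : ℤ} {y : V}, y ∈ V0 Cy r → Finsupp.single 0 y ∈ Sec H (1, r) := fun hy => by simpa using single_sec hy.1 0
  have hE : ∀ b t, coeff t (Em P c' b) u ∈ H.Z := fun b t => by
    have k1 := Em_V0 hR c' b _ t u hu
    refine single_Z.1 (vac_dual hC (hs k1) k1.2 fun w a1 a2 a3 => ?_)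
    obtain ⟨y, hy, rfl⟩ := sec_one a1
    rcases lt_or_ge (m : ℤ) (P.k * b) with e | e
    · exact ⟨0, by simp [gr_neg (by omega) (Sv_gr hy), ip_zero_right]⟩
    obtain ⟨m', hm'⟩ := Int.eq_ofNat_of_zero_le (show 0 ≤ (m : ℤ) + -(P.k * b) by omega)
    obtain ⟨n, hn⟩ := ip_int (ihE m hm (by omega) c' c (fun i => by rw [← cj_cj (c' i), ← map_mul, mul_comm, hc, map_one]) h2 h1
      m' b (by omega) y ⟨hm' ▸ hy, a3⟩ (single_Z.1 a2) t) ((single_Z (M := 0)).2 hz)
    obtain ⟨z, hz⟩ := sg_int P b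
    rw [← Eh_Zp hC hR (S := Sea) (fun j hj => sig_sea P hj) c' b t _ (V0_vac hu), (Eh_Ep P c' b (.inl rfl) 0 t _ _ hy).1, ip_smul_left,
      ← lf_single, adj_lf (Ep_adj P c' b t), lf_single] at hn
    refine ⟨z * n, ?_⟩
    rw [ip_conj, ← one_mul (H.fock.ip _ _), ← sg_sq P b, mul_assoc, hn, hz]
    simp
  refine vac_dual hC (Zp_hm hC c a _ t _ (hs hu)) (Zp_vac hR hH c a t hu.2) fun w _ a2 a3 => ?_
  have h3 := ip_int (single_Z.2 (((h1 _ (by omega)).mul (Mp.C (T_Lz Cy (P.k * a) m))).mul (h2.cj P m (by omega)) t u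
    ⟨Sv_gr hu.1, hz⟩).2) (hC.itg_s (true, 0) w a2) (H := H.fock) (u := Finsupp.single 1 _)
  rw [conj_T P hc _ m (N := E + 1) (by omega) (by omega) (Sv_gr hu.1), ← Finset.sum_product', Finsupp.single_finsetSum,
    ip_sum_left] at h3
  have h4 : ∀ a' b : ℕ, H.fock.ip (Finsupp.single 1 (coeff t (Ep P c a' * C (Cy.T (P.k * a - P.k * a' + P.k * b)) * Em P c' b) u))
      (Cy.ps (true, 0) w) = ∑ x ∈ antidiagonal t, if (P.k * a - P.k * a' + P.k * b : ℤ) = 0 then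
        H.fock.ip (coeff x.1 (Zp P c a') (Finsupp.single 0 (coeff x.2 (Em P c' b) u))) w else 0 := fun a' b => by
    rw [coeff_mul_apply, Finsupp.single_finsetSum, ip_sum_left]
    exact Finset.sum_congr rfl fun x _ => by rw [coeff_mul_C, End.mul_apply, pair_T hC hR hH _ _ _ _ (Em_V0 hR c' b _ _ u hu) a3]
  have h5 := mem_of_sum (p := (a, 0)) (by simp only [mem_product, mem_range]; constructor <;> nlinarith) h3 fun y _ hy => by
    rw [h4]
    refine sum_mem fun x _ => ?_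
    split_ifs with e
    · have k1 := Em_V0 hR c' y.2 _ x.2 u hu
      rcases lt_or_ge (m : ℤ) (P.k * y.2) with e' | e'
      · rw [gr_neg (by omega) (Sv_gr k1.1), Finsupp.single_zero, map_zero, ip_zero_left]
        exact zero_mem _
      obtain ⟨m', hm'⟩ := Int.eq_ofNat_of_zero_le (show 0 ≤ (m : ℤ) + -(P.k * y.2) by omega)
      have k2 : 0 < y.2 := by
        by_contra k3
        have k4 : y.2 = 0 := by omega
        refine hy (Prod.ext ?_ k4)
        rw [k4] at e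
        have : (P.k : ℤ) * a = P.k * y.1 := by simpa [sub_eq_zero] using e
        exact_mod_cast (mul_left_cancel₀ (by omega) this).symm
      obtain ⟨n, hn⟩ := ip_int (ihm m' (by nlinarith) y.1 (by omega) _ (hm' ▸ k1) (hE _ _) x.1) a2
      exact ⟨n, hn.symm⟩
    · exact zero_mem _
  rw [h4] at h5
  convert h5 using 3
  rw [← mul_one (Zp P c a), coeff_mul_apply, ip_sum_left]
  refine Finset.sum_congr rfl fun x _ => ?_
  rw [if_pos (by simp), Em, nv_zero, coeff_one, coeff_one]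
  split_ifs <;> simp

end Cfsg.Agent.PQ.Val
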