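import Cfsg.Agent.PQ.Val.ISer

/-!
# PQ theta, box INT: the grading of the Fock space and the vacuum lattice (helper38)
-/

set_option autoImplicit false

namespace Cfsg.Agent.PQ.Val

open Finset Module Cfsg.Agent.PQ.Th Cfsg.Agent.PQ.Rel
open scoped ComplexConjugate

variable {V : Type} [AddCommGroup V] [Module ℂ V] {H : HS V}

/-- charge and energy -/
noncomputable def ce (H : HS V) (x : H.fock.ι) : ℤ × ℤ := (2 * x.1 + 1 - H.dl x.2, H.rk x.2 + x.1 ^ 2 - x.1 * H.dl x.2)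

/-- the sectors -/
noncomputable def Sec (H : HS V) (s : ℤ × ℤ) : Submodule ℂ (ℤ →₀ V) := H.fock.sup fun x => ce H x = s

/-- rank and parity -/
noncomputable def Sv (H : HS V) (r δ : ℤ) : Submodule ℂ V := H.sup fun i => (H.rk i : ℤ) = r ∧ H.dl i = δ

/-- homogeneous operators -/
def Hm (H : HS V) (A : End ℂ (ℤ →₀ V)) (δ : ℤ × ℤ) : Prop := ∀ s, ∀ u ∈ Sec H s, A u ∈ Sec H (s + δ)

theorem dl_cases (i : H.ι) : H.dl i = 0 ∨ H.dl i = 1 := by unfold HS.dl; split_ifs <;> simp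

theorem b_sec (x : H.fock.ι) : H.fock.b x ∈ Sec H (ce H x) := b_mem rfl

theorem Hm.of {A : End ℂ (ℤ →₀ V)} {δ : ℤ × ℤ} (h : ∀ x, A (H.fock.b x) ∈ Sec H (ce H x + δ)) : Hm H A δ :=
  fun _ _ hu => map_sup (fun x hx => hx ▸ h x) hu

theorem Hm.mul {A B : End ℂ (ℤ →₀ V)} {d e : ℤ × ℤ} (h : Hm H A d) (h' : Hm H B e) : Hm H (A * B) (e + d) :=
  fun n u hu => add_assoc n e d ▸ h _ _ (h' n u hu)

theorem Hm.adj {A B : End ℂ (ℤ →₀ V)} (h : H.fock.Adj A B) {d : ℤ × ℤ} (hA : Hm H A d) : Hm H B (-d) := Hm.of fun j i hi => by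
  have := hA _ _ (b_sec i) j fun e => hi (by rw [e, add_neg_cancel_right])
  rw [adj_repr h] at this
  simpa using this

theorem sec_neg {s : ℤ × ℤ} (hs : s.2 < 0) {u : ℤ →₀ V} (hu : u ∈ Sec H s) : u = 0 :=
  eq_zero_of_sup (Q := fun x => ce H x = s) (fun x hx _ => by
    subst hx
    have h1 : 0 ≤ x.1 ^ 2 - x.1 := by nlinarith [sq_nonneg (2 * x.1 - 1), Int.even_mul_succ_self x.1, lt_trichotomy x.1 0,
      show 0 ≤ x.1 * (x.1 - 1) from by rcases le_or_gt x.1 0 with h | h <;> nlinarith]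
    simp only [ce] at hs
    rcases dl_cases x.2 with h | h <;> rw [h] at hs <;> nlinarith [sq_nonneg x.1]) hu hu

theorem single_sec {r δ : ℤ} {y : V} (hy : y ∈ Sv H r δ) (M : ℤ) :
    Finsupp.single M y ∈ Sec H (2 * M + 1 - δ, r + M ^ 2 - M * δ) := fun x hx => by
  obtain ⟨N, i⟩ := x
  rw [fock_repr]
  by_cases e : M = N
  · subst e
    rw [Finsupp.single_eq_same]
    exact hy i fun h => hx (by simp only [ce, h.1, h.2])
  · simp [Finsupp.single_eq_of_ne (Ne.symm e)]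

theorem sec_one {m : ℤ} {y : ℤ →₀ V} (hy : y ∈ Sec H (1, m)) : ∃ u ∈ Sv H m 0, y = Finsupp.single 0 u :=
  sup_le (S := (Sv H m 0).map (Finsupp.lsingle 0)) (fun x hx => by
    obtain ⟨M, i⟩ := x
    simp only [ce, Prod.mk.injEq] at hx
    have h1 : M = 0 ∧ H.dl i = 0 := by rcases dl_cases i with h | h <;> omega
    obtain ⟨rfl, h2⟩ := h1
    exact ⟨H.b i, b_mem ⟨by simpa using hx.2, h2⟩, (fock_b _ _).symm⟩) hy |>.imp fun _ h => ⟨h.1, h.2.symm⟩

open Classical in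
theorem mem_Sv {r : ℤ} {D : ZMod 4} {y : V} (h1 : y ∈ H.gr r) (h2 : y ∈ H.cmp D) : y ∈ Sv H r (if Od D then 0 else 1) :=
  fun i hi => by
    by_cases h : H.df i = D
    · exact h1 i fun e => hi ⟨e, by rw [HS.dl, h]⟩
    · exact h2 i h

theorem Sv_map {A : End ℂ V} {d : ℤ} {s : ZMod 4} (h1 : Gr H A d) (h2 : Df H A s) (hs : ∀ a, Od (a + s) ↔ Od a) {r δ : ℤ}
    {y : V} (hy : y ∈ Sv H r δ) : A y ∈ Sv H (r + d) δ := map_sup (fun i hi => by
  have := mem_Sv (h1 _ _ (b_gr i)) (h2 _ _ (b_cmp i))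
  rwa [hs, hi.1, ← HS.dl, hi.2] at this) hy

theorem Sv_map' {A : End ℂ V} {d : ℤ} {s : ZMod 4} (h1 : Gr H A d) (h2 : Df H A s) (hs : ∀ a, Od (a + s) ↔ ¬ Od a) {r δ : ℤ}
    {y : V} (hy : y ∈ Sv H r δ) : A y ∈ Sv H (r + d) (1 - δ) := map_sup (fun i hi => by
  have := mem_Sv (h1 _ _ (b_gr i)) (h2 _ _ (b_cmp i))
  rw [hs, hi.1] at this
  convert this using 2
  rw [← hi.2, HS.dl]
  split_ifs <;> simp_all) hy

theorem Sv_gr {r δ : ℤ} : Sv H r δ ≤ H.gr r := sup_mono fun _ h => h.1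

theorem po_Sv {r δ : ℤ} {y : V} (hy : y ∈ Sv H r δ) : H.po y = (1 - δ : ℂ) • y :=
  ext_sup (B := (1 - δ : ℂ) • 1) (fun i hi => by
    rw [po_apply (b_cmp i), ← hi.2, HS.dl]; split_ifs <;> simp) hy

theorem pe_Sv {r δ : ℤ} {y : V} (hy : y ∈ Sv H r δ) : H.pe y = (δ : ℂ) • y :=
  ext_sup (B := (δ : ℂ) • 1) (fun i hi => by
    rw [pe_apply (b_cmp i), ← hi.2, HS.dl]; split_ifs <;> simp) hy

theorem J_Sv {r δ : ℤ} {y : V} (hy : y ∈ Sv H r δ) : H.J y = (1 - 2 * δ : ℂ) • y := by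
  rw [HS.J, LinearMap.sub_apply, po_Sv hy, pe_Sv hy, ← sub_smul]; congr 1; ring

theorem lf_hm {A : End ℂ V} {d : ℤ} (h : ∀ r δ, ∀ y ∈ Sv H r δ, A y ∈ Sv H (r + d) δ) : Hm H (lf A) (0, d) := Hm.of fun x => by
  obtain ⟨M, i⟩ := x
  rw [fock_b, lf_single]
  convert single_sec (h _ _ _ (b_mem ⟨rfl, rfl⟩)) M using 2
  simp only [ce, Prod.mk_add_mk]
  congr 1 <;> ring

theorem mv_single (s : ℤ) (A : ℤ → End ℂ V) (M : ℤ) (y : V) : mv s A (Finsupp.single M y) = Finsupp.single (M + s) (A M y) := by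
  simp [mv]

theorem up_single (A : ℤ → End ℂ V) (x M : ℤ) {r δ : ℤ} {y : V} (hy : y ∈ Sv H r δ) (hδ : δ = 0 ∨ δ = 1) :
    Cyc.up (H := H) A x (Finsupp.single M y) = Finsupp.single (M + 1 - δ) (A (x - M) y) := by
  rw [Cyc.up, LinearMap.add_apply, mv_single, mv_single, End.mul_apply, End.mul_apply, po_Sv hy, pe_Sv hy]
  rcases hδ with rfl | rfl <;> simp

theorem up_hm {A : ℤ → End ℂ V} (h : ∀ d r δ, ∀ y ∈ Sv H r δ, A d y ∈ Sv H (r + d) (1 - δ)) (x : ℤ) :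
    Hm H (Cyc.up (H := H) A x) (1, x) := Hm.of fun z => by
  obtain ⟨M, i⟩ := z
  rw [fock_b, up_single A x M (b_mem ⟨rfl, rfl⟩) (dl_cases i)]
  convert single_sec (h _ _ _ _ (b_mem ⟨rfl, rfl⟩)) _ using 2
  simp only [ce, Prod.mk_add_mk]
  rcases dl_cases i with e | e <;> rw [e] <;> congr 1 <;> ring

variable (Cy : Cyc H)

theorem inv_Sv (j : ℕ) : ∀ r δ, ∀ y ∈ Sv H r δ, inv Cy.hs j y ∈ Sv H (r + -j) δ := by
  induction j using Nat.strong_induction_on with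
  | _ j ih =>
    intro r δ y hy
    cases j with
    | zero => rw [Th.inv]; simpa using hy
    | succ n =>
      rw [Th.inv, LinearMap.neg_apply, LinearMap.sum_apply]
      refine neg_mem (sum_mem fun i _ => ?_)
      have := Sv_map (adj_gr (Cy.h_adj (i + 1)) (hom_gr (Cy.h_hom _))) (adj_df (Cy.h_adj (i + 1)) (hom_df (Cy.h_hom _)))
        (by simp) (ih (n - i) (by omega) r δ y hy)
      rwa [show r + -((n - i : ℕ) : ℤ) + -((i + 1 : ℕ) : ℤ) = r + -((n + 1 : ℕ) : ℤ) by have := i.2; omega] at this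

theorem R_Sv (d r δ : ℤ) : ∀ y ∈ Sv H r δ, Cy.R d y ∈ Sv H (r + d) (1 - δ) := fun _ hy =>
  Sv_map' (hom_gr (Cy.R_hom d)) (hom_df (Cy.R_hom d)) od_one hy

theorem L_Sv (d r δ : ℤ) : ∀ y ∈ Sv H r δ, Cy.L d y ∈ Sv H (r + d) (1 - δ) := fun _ hy => by
  have := Sv_map' (adj_gr (Cy.R_adj (-d)) (hom_gr (Cy.R_hom _))) (adj_df (Cy.R_adj (-d)) (hom_df (Cy.R_hom _))) od_neg_one hy
  rwa [neg_neg] at this

theorem X_Sv {A : ℤ → End ℂ V} (h : ∀ d r δ, ∀ y ∈ Sv H r δ, A d y ∈ Sv H (r + d) (1 - δ)) (d r δ : ℤ) :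
    ∀ y ∈ Sv H r δ, Cy.X A d y ∈ Sv H (r + d) (1 - δ) := fun _ hy => map_sup (fun i hi => by
  rw [Cyc.X, mk_b]
  refine sum_mem fun j _ => ?_
  convert h (d + j) _ _ _ (inv_Sv Cy j r δ _ (b_mem hi)) using 2
  ring) hy

theorem ps_hm (c : Site) : Hm H (Cy.ps c) (1, c.2) := by
  unfold Cyc.ps
  split_ifs
  · refine up_hm (fun d r δ y hy => ?_) _
    rw [End.mul_apply, J_Sv hy, map_smul]
    exact Submodule.smul_mem _ _ (X_Sv Cy (L_Sv Cy) _ _ _ _ hy)
  · exact up_hm (X_Sv Cy (R_Sv Cy)) _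

theorem X_vac {u : V} {m : ℕ} (hu : u ∈ H.gr m) (h : ∀ j, 0 < j → Cy.hs j u = 0) (A : ℤ → End ℂ V) (d : ℤ) :
    Cy.X A d u = A d u := by
  have h1 : ∀ j, 0 < j → inv Cy.hs j u = 0 := fun j => by
    induction j using Nat.strong_induction_on with
    | _ j ih =>
      intro hj
      obtain ⟨n, rfl⟩ : ∃ n, j = n + 1 := ⟨j - 1, by omega⟩
      rw [Th.inv, LinearMap.neg_apply, LinearMap.sum_apply, Finset.sum_eq_zero, neg_zero]
      intro i _
      rcases Nat.eq_zero_or_pos (n - i) with e | e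
      · rw [e, Th.inv, mul_one, h _ (by omega)]
      · rw [End.mul_apply, ih _ (by omega) e, map_zero]
  rw [ext_sup (B := ∑ j ∈ range (m + 1), A (d + j) * inv Cy.hs j) (fun i hi => by
    rw [Cyc.X, mk_b, LinearMap.sum_apply, show H.rk i = m by exact_mod_cast hi]; rfl) hu, LinearMap.sum_apply,
    Finset.sum_range_succ', Finset.sum_eq_zero fun j _ => by rw [End.mul_apply, h1 _ (by omega), map_zero], Th.inv]
  simp

variable {Cy}

theorem pt_hm (hC : CAR Cy) (c : Site) : Hm H (Cy.pt c) (-(1, c.2)) := (ps_hm Cy c).adj (hC.adj c)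

theorem T_vac (hC : CAR Cy) {u : V} {m : ℤ} (hu : u ∈ Sv H m 0) (h : Finsupp.single 0 u ∈ Cy.Vac) (d : ℤ) :
    Finsupp.single 1 (Cy.T d u) = Cy.ps (false, d) (Finsupp.single 0 u) + Cy.ps (true, d) (Finsupp.single 0 u) := by
  rcases lt_or_ge m 0 with hm | hm
  · simp [gr_neg hm (Sv_gr hu)]
  obtain ⟨m, rfl⟩ := Int.eq_ofNat_of_zero_le hm
  have h1 := X_vac Cy (Sv_gr hu) (hC.vac_hs u (by simpa using po_Sv hu) h)
  simp only [Cyc.ps, Bool.false_eq_true, if_false, if_true]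
  rw [up_single _ _ _ hu (.inl rfl), up_single _ _ _ hu (.inl rfl), End.mul_apply, J_Sv hu]
  simp [h1, Cyc.T]

/-! ### the vacuum lattice -/

theorem ip_int {u v : V} (hu : u ∈ H.Z) (hv : v ∈ H.Z) : ∃ n : ℤ, H.ip u v = n := by
  have : H.ip u v ∈ (Int.castRingHom ℂ).range := sum_mem fun i _ => by
    obtain ⟨m, hm⟩ := hu i
    obtain ⟨n, hn⟩ := hv i
    exact ⟨m * n, by simp [hm, hn]⟩
  exact this.imp fun _ h => h.symm

theorem b_Z (i : H.ι) : H.b i ∈ H.Z := fun j => by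
  classical
  rw [Basis.repr_self, Finsupp.single_apply]
  split_ifs
  exacts [⟨1, by simp⟩, ⟨0, by simp⟩]

open Classical in
/-- the operators which kill the vacuum -/
noncomputable def kl (Cy : Cyc H) (c : Site) : End ℂ (ℤ →₀ V) := if Sea c then Cy.ps c else Cy.pt c

open Classical in
/-- their adjoints -/
noncomputable def ks (Cy : Cyc H) (c : Site) : End ℂ (ℤ →₀ V) := if Sea c then Cy.pt c else Cy.ps c

theorem mem_vac {v : ℤ →₀ V} : v ∈ Cy.Vac ↔ ∀ c, kl Cy c v = 0 :=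
  ⟨fun h c => by unfold kl; split_ifs with e; exacts [h.1 c e, h.2 c e],
    fun h => ⟨fun c e => by simpa only [kl, if_pos e] using h c, fun c e => by simpa only [kl, if_neg e] using h c⟩⟩

theorem kl_kl (hC : CAR Cy) (c c' : Site) : kl Cy c * kl Cy c' + kl Cy c' * kl Cy c = 0 := by
  unfold kl
  split_ifs with h h' h'
  · exact hC.ss _ _
  · rw [hC.st, if_neg]; rintro rfl; exact h' h
  · rw [add_comm, hC.st, if_neg]; rintro rfl; exact h h'
  · exact hC.tt _ _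

theorem kl_ks (hC : CAR Cy) (c c' : Site) : kl Cy c * ks Cy c' + ks Cy c' * kl Cy c = if c = c' then 1 else 0 := by
  unfold kl ks
  by_cases h : Sea c <;> by_cases h' : Sea c' <;> simp only [h, h', if_true, if_false]
  · exact hC.st _ _
  · rw [hC.ss, if_neg]; rintro rfl; exact h' h
  · rw [hC.tt, if_neg]; rintro rfl; exact h h'
  · rw [add_comm, hC.st]; simp only [eq_comm]

theorem exists_proj (hC : CAR Cy) (s : ℤ × ℤ) (F : Finset Site) : ∀ v ∈ Sec H s, v ∈ H.fock.Z → (∀ c ∉ F, kl Cy c v = 0) →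
    ∃ w ∈ Sec H s, w ∈ H.fock.Z ∧ w ∈ Cy.Vac ∧ ∀ y ∈ Cy.Vac, H.fock.ip y v = H.fock.ip y w := by
  induction F using Finset.induction_on with
  | empty => exact fun v h1 h2 h3 => ⟨v, h1, h2, mem_vac.2 fun c => h3 c (by simp), fun _ _ => rfl⟩
  | insert c F hc ih =>
    intro v h1 h2 h3
    refine (ih (kl Cy c (ks Cy c v)) ?_ ?_ ?_).imp fun w ⟨k1, k2, k3, k4⟩ => ⟨k1, k2, k3, fun y hy => ?_⟩
    rotate_right
    · have a1 : H.fock.Adj (kl Cy c) (ks Cy c) := by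
        unfold kl ks; split_ifs; exacts [hC.adj c, adj_symm (hC.adj c)]
      have a2 := LinearMap.congr_fun (kl_ks hC c c) v
      rw [if_pos rfl, LinearMap.add_apply, End.one_apply, End.mul_apply, End.mul_apply] at a2
      rw [← k4 y hy]
      conv_lhs => rw [← a2, ip_add_right, ← a1, mem_vac.1 hy, ip_zero_left, add_zero]
    · unfold kl ks
      split_ifs
      · simpa only [neg_add_cancel_right] using ps_hm Cy c _ _ (pt_hm hC c _ _ h1)
      · simpa only [add_neg_cancel_right] using pt_hm hC c _ _ (ps_hm Cy c _ _ h1)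
    · unfold kl ks
      split_ifs
      exacts [hC.itg_s c _ (hC.itg_t c _ h2), hC.itg_t c _ (hC.itg_s c _ h2)]
    · intro c' hc'
      have a1 := LinearMap.congr_fun (kl_kl hC c' c) (ks Cy c v)
      rw [LinearMap.add_apply, End.mul_apply, End.mul_apply, LinearMap.zero_apply] at a1
      by_cases e : c' = c
      · subst e
        rwa [← two_smul ℂ, smul_eq_zero_iff_right two_ne_zero] at a1
      · have a2 := LinearMap.congr_fun (kl_ks hC c' c) v
        rw [if_neg e, LinearMap.add_apply, End.mul_apply, End.mul_apply, h3 c' (by simp [e, hc']), map_zero, add_zero,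
          LinearMap.zero_apply] at a2
        rwa [a2, map_zero, add_zero] at a1

/-- **the vacuum lattice is self-dual** -/
theorem vac_dual (hC : CAR Cy) {s : ℤ × ℤ} {y : ℤ →₀ V} (h1 : y ∈ Sec H s) (h2 : y ∈ Cy.Vac)
    (h : ∀ w ∈ Sec H s, w ∈ H.fock.Z → w ∈ Cy.Vac → ∃ n : ℤ, H.fock.ip y w = n) : y ∈ H.fock.Z := fun x => by
  by_cases hx : ce H x = s
  · obtain ⟨w, k1, k2, k3, k4⟩ := exists_proj hC s (univ ×ˢ Icc (-|s.2|) |s.2|) _ (hx ▸ b_sec x) (b_Z x) fun c hc => by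
      simp only [mem_product, mem_univ, true_and, mem_Icc, not_and_or, not_le] at hc
      have a1 := le_abs_self s.2
      have a2 := abs_nonneg s.2
      unfold kl
      split_ifs with e <;> unfold Sea at e
      · refine sec_neg ?_ (ps_hm Cy c _ _ (hx ▸ b_sec x))
        simp only [Prod.snd_add]
        split_ifs at e <;> omega
      · refine sec_neg ?_ (pt_hm hC c _ _ (hx ▸ b_sec x))
        simp only [Prod.snd_add, Prod.snd_neg]
        split_ifs at e <;> omega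
    rw [← ip_b_right, k4 y h2]
    exact h w k1 k2 k3
  · exact ⟨0, by rw [h1 x hx, Int.cast_zero]⟩

end Cfsg.Agent.PQ.Val
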