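import Cfsg.Agent.H421.GLn.Necklace

/-!
# PQ, necklaces for orbits of constant size `d` (helper38)

`τ f` is the value of a character at a representative of the place `f`, the orbit is `τ f ^ g ^ i`, `i < d`.
* `cf g d τ x f = ∏_{i < d} (1 + τ f ^ (x g ^ i) X)`; `Pl g d τ p r a = ∑ f, (∑_{i < d} τ f ^ (a g ^ i) - d) • p f r`;
* `Zl g d τ p x r = ∑ f, (cf ^ r - (1 + X) ^ (d r)) p f r`;
* `neck` : if the Newton sequences of the `Zl` have coefficients in `S`, then `h_k` of every label is in `S`.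
-/

set_option autoImplicit false

namespace Cfsg.Agent.PQ.Val

open Cfsg.Agent.H421.GLn Finset Polynomial

variable {R : Type*} [CommRing R] [Algebra ℂ R]

/-- dilation of a Newton sequence -/
theorem newt_dil {d : ℕ} (hd : 0 < d) {P Q : ℕ → R} (h0 : ∀ k, ¬ d ∣ k → Q k = 0) (h1 : ∀ r, Q (d * r) = d * P r) (n : ℕ) :
    newt Q n = if d ∣ n then newt P (n / d) else 0 := by
  refine (newt_unique (h := fun n => if d ∣ n then newt P (n / d) else 0) (N := n) (by simp [newt_zero]) (fun n _ => ?_) n le_rfl).symm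
  by_cases hn : d ∣ n
  · obtain ⟨k, rfl⟩ := hn
    obtain ⟨d, rfl⟩ : ∃ c, d = c + 1 := ⟨d - 1, by omega⟩
    rw [if_pos (dvd_mul_right _ _), Nat.mul_div_cancel_left _ hd, Nat.cast_mul, mul_assoc, newt_rec, sum_range_mul,
      Finset.mul_sum]
    refine Finset.sum_congr rfl fun j hj => ?_
    rw [Finset.sum_range_succ, Finset.sum_eq_zero, zero_add, show (d + 1) * j + d + 1 = (d + 1) * (j + 1) by ring, h1, mul_assoc]
    · obtain ⟨i, rfl⟩ : ∃ i, k = j + 1 + i := Nat.exists_eq_add_of_le (Finset.mem_range.1 hj)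
      rw [show (d + 1) * (j + 1 + i) - 1 - ((d + 1) * j + d) = (d + 1) * i by
        rw [show (d + 1) * (j + 1 + i) = (d + 1) * i + ((d + 1) * j + d) + 1 by ring]; omega,
        if_pos (dvd_mul_right _ _), Nat.mul_div_cancel_left _ hd, show j + 1 + i - 1 - j = i by omega]
    · intro i hi
      rw [h0, zero_mul]
      rw [add_assoc, Nat.dvd_add_right (dvd_mul_right _ _)]
      exact Nat.not_dvd_of_pos_of_lt (by omega) (by have := Finset.mem_range.1 hi; omega)
  · rw [if_neg hn, mul_zero]
    refine (Finset.sum_eq_zero fun i hi => ?_).symm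
    by_cases h : d ∣ i + 1
    · rw [if_neg, mul_zero]
      intro h2
      have := Finset.mem_range.1 hi
      exact hn (by rw [show n = n - 1 - i + (i + 1) by omega]; exact dvd_add h2 h)
    · rw [h0 _ h, zero_mul]

variable {I : Type*} [Fintype I] (g : ℤ) (d : ℕ) (τ : I → ℂˣ) (p : I → ℕ → R)

/-- the weight of a place -/
noncomputable def cf (x : ℤ) (f : I) : ℂ[X] := ∏ i ∈ range d, (1 + C ((τ f ^ (x * g ^ i) : ℂˣ) : ℂ) * X)

/-- the orbit sum minus the size of the orbit -/
noncomputable def os (a : ℤ) (f : I) : ℂ := ∑ i ∈ range d, ((τ f ^ (a * g ^ i) : ℂˣ) : ℂ) - d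

/-- the power sums of the label `a` -/
noncomputable def Pl (r : ℕ) (a : ℤ) : R := ∑ f, os g d τ a f • p f r

/-- the power sums of the conjugated vertex operator -/
noncomputable def Zl (x : ℤ) (r : ℕ) : R[X] :=
  ∑ f, (cf g d τ x f ^ r - (1 + X) ^ (d * r)).map (algebraMap ℂ R) * C (p f r)

variable {g d τ}

theorem pow_per {y : ℂˣ} (hy : y ^ g ^ d = y) (a : ℤ) (i : ℕ) : y ^ (a * g ^ (i + d)) = y ^ (a * g ^ i) := by
  rw [pow_add, ← mul_assoc, mul_comm, zpow_mul, hy]

theorem pow_per' {y : ℂˣ} (hy : y ^ g ^ d = y) (a : ℤ) (i r : ℕ) : y ^ (a * g ^ (i + d * r)) = y ^ (a * g ^ i) := by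
  induction r with
  | zero => rfl
  | succ r ih => rw [Nat.mul_succ, ← add_assoc, pow_per hy, ih]

theorem prod_shift {A : Type*} [CommMonoid A] {u : ℕ → A} {k : ℕ} (h : ∀ i, u (i + k) = u i) (j : ℕ) :
    ∏ i ∈ range k, u (i + j) = ∏ i ∈ range k, u i := by
  induction j with
  | zero => rfl
  | succ j ih =>
    cases k with
    | zero => rfl
    | succ k =>
      rw [← ih, Finset.prod_range_succ, Finset.prod_range_succ', show k + (j + 1) = 0 + j + (k + 1) by ring, h]
      congr 1
      exact Finset.prod_congr rfl fun i _ => congrArg u (by ring)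

theorem os_mul (hτ : ∀ f, τ f ^ g ^ d = τ f) (a : ℤ) (f : I) : os g d τ (g * a) f = os g d τ a f := by
  have := prod_shift (A := Multiplicative ℂ) (u := fun i => Multiplicative.ofAdd ((τ f ^ (a * g ^ i) : ℂˣ) : ℂ)) (k := d)
    (fun i => by rw [pow_per (hτ f)]) 1
  rw [← ofAdd_sum, ← ofAdd_sum] at this
  rw [os, os, ← Multiplicative.ofAdd.injective this]
  congr 1
  exact Finset.sum_congr rfl fun i _ => by rw [pow_succ]; congr 2; ring

theorem os_congr {a b : ℤ} (h : ∀ f, τ f ^ a = τ f ^ b) (f : I) : os g d τ a f = os g d τ b f := by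
  simp only [os, zpow_mul, h]

theorem sum_words (hτ : ∀ f, τ f ^ g ^ d = τ f) (x : ℤ) (r : ℕ) (f : I) :
    ∑ T ∈ (range (d * r)).powerset, monomial T.card (os g d τ (x * ∑ i ∈ T, g ^ i) f) =
      (d : ℂ[X]) * (cf g d τ x f ^ r - (1 + X) ^ (d * r)) := by
  have h1 : ∀ j, ∑ T ∈ (range (d * r)).powerset, monomial T.card ((τ f ^ ((x * ∑ i ∈ T, g ^ i) * g ^ j) : ℂˣ) : ℂ) =
      cf g d τ x f ^ r := fun j => by
    have h2 : cf g d τ x f ^ r = ∏ i ∈ range (d * r), (1 + C ((τ f ^ (x * g ^ i) : ℂˣ) : ℂ) * X) := by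
      have := sum_range_mul (A := Additive ℂ[X]) d r fun i => Additive.ofMul (1 + C ((τ f ^ (x * g ^ i) : ℂˣ) : ℂ) * X)
      simp only [← ofMul_prod] at this
      rw [Additive.ofMul.injective this, Finset.prod_congr rfl fun j _ => Finset.prod_congr rfl fun i _ => by
        rw [add_comm (d * j), pow_per' (hτ f)], Finset.prod_const, Finset.card_range, cf]
    rw [h2, ← prod_shift (fun i => by rw [pow_per' (hτ f)]) j, Finset.prod_one_add]
    refine Finset.sum_congr rfl fun T _ => ?_
    rw [Finset.prod_mul_distrib, Finset.prod_const, ← map_prod, C_mul_X_pow_eq_monomial, ← Units.coe_prod]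
    congr 2
    rw [mul_assoc, Finset.sum_mul, Finset.mul_sum]
    simp only [pow_add]
    exact (map_sum (zpowersHom ℂˣ (τ f)).toAdditiveRight _ _).trans (ofMul_prod _ _).symm
  have h3 : ∑ T ∈ (range (d * r)).powerset, (monomial T.card (1 : ℂ) : ℂ[X]) = (1 + X) ^ (d * r) := by
    rw [← Finset.card_range (d * r), ← Finset.prod_const, Finset.card_range, Finset.prod_one_add]
    exact Finset.sum_congr rfl fun T _ => by rw [Finset.prod_const, X_pow_eq_monomial]
  simp only [os, map_sub, map_sum]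
  rw [Finset.sum_sub_distrib, Finset.sum_comm, Finset.sum_congr rfl fun j _ => h1 j, Finset.sum_const, Finset.card_range,
    mul_sub, ← h3, Finset.mul_sum, nsmul_eq_mul]
  congr 1
  exact Finset.sum_congr rfl fun T _ => by rw [← C_eq_natCast, C_mul_monomial, mul_one]

/-- **the complete homogeneous elements of the labels** -/
theorem neck (hd : 0 < d) (hτ : ∀ f, τ f ^ g ^ d = τ f) (S : Subring R) (N : ℕ)
    (h : ∀ x, ∀ n ≤ N, ∀ k, (newt (Zl g d τ p x) n).coeff k ∈ S) (x : ℤ) {k : ℕ} (hk : k ≤ N) :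
    newt (fun r => Pl g d τ p r (r * x)) k ∈ S := by
  let P : ℕ → ℤ → R := fun k a => if d ∣ k then Pl g d τ p (k / d) a else 0
  have hP : ∀ r a, P (d * r) a = Pl g d τ p r a := fun r a => by
    simp only [P, if_pos (dvd_mul_right d r), Nat.mul_div_cancel_left _ hd]
  have h1 := HH_mem (q := g) (N := d * N) (P := P) S
    (fun k a b _ _ hab => by
      by_cases hk : d ∣ k
      · obtain ⟨r, rfl⟩ := hk
        obtain ⟨t, ht⟩ := hab.dvd
        rw [hP, hP, Pl, Pl]
        refine Finset.sum_congr rfl fun f _ => ?_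
        rw [← os_mul hτ a, os_congr (b := b) fun f => ?_]
        have := pow_per' (hτ f) t 0 r
        rw [show b = g * a + (t * g ^ (0 + d * r) - t * g ^ 0) by rw [zero_add]; linear_combination ht, zpow_add, zpow_sub,
          this, mul_inv_cancel, mul_one]
      · simp only [P, if_neg hk])
    (fun x n r hn => by
      rw [newt_dil hd (P := Zl g d τ p x) (fun k hk => by simp [QQ, P, hk]) (fun r => ?_)]
      · split_ifs with h2
        · exact h x _ (Nat.div_le_of_le_mul hn) r
        · exact S.zero_mem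
      · simp only [QQ, hP, Pl, map_sum, Zl]
        rw [Finset.sum_comm, Finset.mul_sum]
        refine Finset.sum_congr rfl fun f _ => ?_
        rw [← mul_assoc, ← Polynomial.map_natCast (algebraMap ℂ R), ← Polynomial.map_mul, ← sum_words hτ,
          Polynomial.map_sum, Finset.sum_mul]
        exact Finset.sum_congr rfl fun T _ => by rw [map_monomial, monomial_mul_C, Algebra.smul_def])
    k d x hd (by rw [mul_comm]; exact Nat.mul_le_mul_left d hk)
  rw [HH] at h1
  convert h1 using 3 with r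
  rw [hP, Pl, Pl]
  refine Finset.sum_congr rfl fun f _ => ?_
  rw [os_congr fun f => ?_]
  induction r with
  | zero => simp
  | succ r ih =>
    have := pow_per' (hτ f) x 0 r
    rw [Finset.sum_range_succ, mul_add, zpow_add, ← ih, ← pow_mul, ← zero_add (d * r), this, ← zpow_add]
    congr 1
    push_cast
    ring

end Cfsg.Agent.PQ.Val
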