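import Cfsg.Agent.PQ.Rel.Bas
import Cfsg.Agent.PQ.Val.Neck

/-!
# PQ theta, box INT: Newton sequences in non-commutative algebras (helper38)
-/

set_option autoImplicit false

namespace Cfsg.Agent.PQ.Val

open Finset PowerSeries

variable {A B : Type*} [Ring A] [Algebra ℂ A] [Ring B] [Algebra ℂ B]

/-- Newton sequence -/
noncomputable def nv (P : ℕ → A) : ℕ → A
  | 0 => 1
  | n + 1 => ((n + 1 : ℂ)⁻¹) • ∑ i : Fin (n + 1), P (i + 1) * nv P (n - i)
decreasing_by omega

theorem nv_realised : True := by have := @nv.eq_def.{0}; trivial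

theorem nv_zero (P : ℕ → A) : nv P 0 = 1 := by rw [nv]

theorem nv_succ (P : ℕ → A) (n : ℕ) :
    nv P (n + 1) = ((n + 1 : ℂ)⁻¹) • ∑ x ∈ antidiagonal n, P (x.1 + 1) * nv P x.2 := by
  rw [nv, Finset.Nat.sum_antidiagonal_eq_sum_range_succ (fun i j => P (i + 1) * nv P j), Finset.sum_range]

theorem nv_ind {P : ℕ → A} {Q : ℕ → B} (r : ℕ → A → B → Prop) (h1 : r 0 1 1) (h0 : ∀ n, r n 0 0)
    (ha : ∀ n x y x' y', r n x y → r n x' y' → r n (x + x') (y + y'))
    (hs : ∀ n (m : ℕ) x y, r n x y → r n (((m + 1 : ℂ)⁻¹) • x) (((m + 1 : ℂ)⁻¹) • y))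
    (hm : ∀ i n, r n (nv P n) (nv Q n) → r (i + n + 1) (P (i + 1) * nv P n) (Q (i + 1) * nv Q n)) (n : ℕ) :
    r n (nv P n) (nv Q n) := by
  induction n using Nat.strong_induction_on with
  | _ n ih =>
    cases n with
    | zero => rw [nv_zero, nv_zero]; exact h1
    | succ n =>
      rw [nv_succ, nv_succ]
      refine hs _ _ _ _ ?_
      have : ∀ s ⊆ antidiagonal n, r (n + 1) (∑ x ∈ s, P (x.1 + 1) * nv P x.2) (∑ x ∈ s, Q (x.1 + 1) * nv Q x.2) := by
        intro s
        induction s using Finset.induction_on with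
        | empty => intro _; simpa using h0 _
        | insert x s hx ih2 =>
          intro hs
          rw [Finset.sum_insert hx, Finset.sum_insert hx]
          have h := mem_antidiagonal.1 (hs (mem_insert_self _ _))
          exact ha _ _ _ _ _ (h ▸ hm _ _ (ih _ (by omega))) (ih2 fun y hy => hs (mem_insert_of_mem hy))
      exact this _ (fun _ h => h)

theorem nw_eq {V : Type} [AddCommGroup V] [Module ℂ V] (P : ℕ → Module.End ℂ V) (n : ℕ) : Th.nw P n = nv P n := by
  induction n using Nat.strong_induction_on with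
  | _ n ih =>
    cases n with
    | zero => rw [nv, Th.nw]
    | succ n => rw [nv, Th.nw]; congr 1; exact Finset.sum_congr rfl fun i _ => by rw [ih _ (by omega)]

theorem newt_eq {R : Type*} [CommRing R] [Algebra ℂ R] (P : ℕ → R) (n : ℕ) : H421.GLn.newt P n = nv P n := by
  induction n using Nat.strong_induction_on with
  | _ n ih =>
    cases n with
    | zero => rw [nv, H421.GLn.newt]
    | succ n => rw [nv, H421.GLn.newt]; congr 1; exact Finset.sum_congr rfl fun i _ => by rw [ih _ (by omega)]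

theorem nv_map (φ : A →ₐ[ℂ] B) (P : ℕ → A) (n : ℕ) : φ (nv P n) = nv (fun j => φ (P j)) n :=
  nv_ind (fun _ x y => φ x = y) (map_one φ) (fun _ => map_zero φ) (fun _ _ _ _ _ h h' => by rw [map_add, h, h'])
    (fun _ _ _ _ h => by rw [map_smul, h]) (fun _ _ h => by rw [map_mul, h]) n

theorem nv_congr {P Q : ℕ → A} {N : ℕ} (h : ∀ j, 0 < j → j ≤ N → P j = Q j) {n : ℕ} (hn : n ≤ N) : nv P n = nv Q n :=
  nv_ind (fun n x y => n ≤ N → x = y) (fun _ => rfl) (fun _ _ => rfl) (fun _ _ _ _ _ h h' e => by rw [h e, h' e])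
    (fun _ _ _ _ h e => by rw [h e]) (fun _ _ h' e => by rw [h' (by omega), h _ (by omega) (by omega)]) n hn

theorem nv_conj {P Q : ℕ → A} {N : A} (h : ∀ j, N * P (j + 1) = Q (j + 1) * N) (n : ℕ) : N * nv P n = nv Q n * N :=
  nv_ind (fun _ x y => N * x = y * N) (by simp) (by simp) (fun _ _ _ _ _ h h' => by rw [mul_add, add_mul, h, h'])
    (fun _ _ _ _ h => by rw [mul_smul_comm, smul_mul_assoc, h])
    (fun _ _ h' => by rw [← mul_assoc, h, mul_assoc, h', mul_assoc]) n

theorem nv_scale {P : ℕ → A} {s : A} (h : ∀ j, Commute s (P j)) (n : ℕ) : nv (fun j => s ^ j * P j) n = s ^ n * nv P n :=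
  nv_ind (fun n x y => x = s ^ n * y) (by simp) (by simp) (fun _ _ _ _ _ h h' => by rw [mul_add, h, h'])
    (fun _ _ _ _ h => by rw [mul_smul_comm, h])
    (fun i n h' => by
      rw [h', mul_assoc, ← mul_assoc (P _), ← ((h _).pow_left n).eq, mul_assoc, ← mul_assoc, ← pow_add, add_right_comm]) n

theorem nv_succ' {P : ℕ → A} (h : ∀ i j, Commute (P i) (P j)) (n : ℕ) :
    nv P (n + 1) = ((n + 1 : ℂ)⁻¹) • ∑ x ∈ antidiagonal n, nv P x.2 * P (x.1 + 1) := by
  rw [nv_succ]
  congr 1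
  exact Finset.sum_congr rfl fun x _ => nv_conj (fun j => (h _ _).eq) _

theorem nv_mem {P : ℕ → A} (M : ℕ → Submodule ℂ A) (h1 : 1 ∈ M 0) (h : ∀ i n, ∀ x ∈ M n, P (i + 1) * x ∈ M (i + n + 1))
    (n : ℕ) : nv P n ∈ M n :=
  nv_ind (Q := P) (fun n x _ => x ∈ M n) h1 (fun _ => zero_mem _) (fun _ _ _ _ _ h h' => add_mem h h')
    (fun _ _ _ _ h => Submodule.smul_mem _ _ h) (fun _ _ h' => h _ _ _ h') n

theorem nv_sub_mem {P Q : ℕ → A} (M : Submodule ℂ A) (h1 : ∀ j, ∀ x ∈ M, P (j + 1) * x ∈ M)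
    (h2 : ∀ j n, (P (j + 1) - Q (j + 1)) * nv Q n ∈ M) (n : ℕ) : nv P n - nv Q n ∈ M :=
  nv_ind (fun _ x y => x - y ∈ M) (by simp) (by simp) (fun _ _ _ _ _ h h' => by rw [add_sub_add_comm]; exact add_mem h h')
    (fun _ _ _ _ h => by rw [← smul_sub]; exact Submodule.smul_mem _ _ h)
    (fun i n h' => by
      have := add_mem (h1 i _ h') (h2 i n)
      rwa [mul_sub, sub_mul, sub_add_sub_cancel] at this) n

/-- the derivative -/
noncomputable def dd (f : A⟦X⟧) : A⟦X⟧ := PowerSeries.mk fun n => (n + 1 : ℂ) • coeff (n + 1) f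

theorem dd_mul (f g : A⟦X⟧) : dd (f * g) = dd f * g + f * dd g := by
  ext n
  simp only [dd, map_add, coeff_mul, coeff_mk]
  have h1 := Finset.Nat.sum_antidiagonal_succ (n := n) (f := fun x => (x.1 : ℂ) • (coeff x.1 f * coeff x.2 g))
  have h2 := Finset.Nat.sum_antidiagonal_succ' (n := n) (f := fun x => (x.2 : ℂ) • (coeff x.1 f * coeff x.2 g))
  simp only [Nat.cast_zero, zero_smul, zero_add, Nat.cast_add, Nat.cast_one] at h1 h2
  simp only [smul_mul_assoc, mul_smul_comm]
  rw [← h1, ← h2, ← Finset.sum_add_distrib, Finset.smul_sum]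
  refine Finset.sum_congr rfl fun x hx => ?_
  rw [← add_smul, ← Nat.cast_add, mem_antidiagonal.1 hx, Nat.cast_add, Nat.cast_one]

theorem dd_nv (P : ℕ → A) : dd (PowerSeries.mk (nv P)) = (PowerSeries.mk fun j => P (j + 1)) * PowerSeries.mk (nv P) := by
  ext n
  simp only [dd, coeff_mul, coeff_mk]
  rw [nv_succ, smul_inv_smul₀ (by exact_mod_cast Nat.succ_ne_zero n)]

theorem nv_unique {P : ℕ → A} {f : A⟦X⟧} (h0 : coeff 0 f = 1) (h : dd f = (PowerSeries.mk fun j => P (j + 1)) * f) (n : ℕ) :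
    nv P n = coeff n f := by
  induction n using Nat.strong_induction_on with
  | _ n ih =>
    cases n with
    | zero => rw [nv_zero, h0]
    | succ n =>
      have := congrArg (coeff n) h
      simp only [dd, coeff_mul, coeff_mk] at this
      rw [nv_succ, Finset.sum_congr rfl fun x hx => by rw [ih x.2 (by have := mem_antidiagonal.1 hx; omega)], ← this,
        inv_smul_smul₀ (by exact_mod_cast Nat.succ_ne_zero n)]

theorem nv_add {P Q : ℕ → A} (h : ∀ i j, Commute (P i) (Q j)) (n : ℕ) :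
    nv (fun j => P j + Q j) n = ∑ x ∈ antidiagonal n, nv P x.1 * nv Q x.2 := by
  rw [nv_unique (f := PowerSeries.mk (nv P) * PowerSeries.mk (nv Q)) (by simp [nv_zero]) ?_, coeff_mul]
  · simp only [coeff_mk]
  · have h1 : PowerSeries.mk (nv P) * (PowerSeries.mk fun j => Q (j + 1)) =
        (PowerSeries.mk fun j => Q (j + 1)) * PowerSeries.mk (nv P) := by
      ext m
      rw [coeff_mul, coeff_mul, ← Finset.Nat.sum_antidiagonal_swap]
      refine Finset.sum_congr rfl fun x _ => ?_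
      simp only [coeff_mk, Prod.fst_swap, Prod.snd_swap]
      exact (nv_conj (fun j => (h _ _).eq.symm) _).symm
    rw [dd_mul, dd_nv, dd_nv, ← mul_assoc (PowerSeries.mk (nv P)), h1, mul_assoc, mul_assoc, ← add_mul]
    congr 1

theorem tri_sq {M : Type*} [AddCommMonoid M] {N : ℕ} {f : ℕ → ℕ → M} (hf : ∀ i j, N ≤ i + j → f i j = 0) :
    ∑ n ∈ range N, ∑ x ∈ antidiagonal n, f x.1 x.2 = ∑ i ∈ range N, ∑ j ∈ range N, f i j := by
  simp only [Finset.Nat.sum_antidiagonal_eq_sum_range_succ]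
  rw [Finset.sum_range_diag_flip]
  refine Finset.sum_congr rfl fun i _ => Finset.sum_subset (range_subset_range.2 (by omega)) fun j _ hj => hf _ _ ?_
  rw [mem_range] at hj
  omega

end Cfsg.Agent.PQ.Val
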