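import Cfsg.Agent.PQ.Val.IFock

/-!
# PQ theta, box INT: the local operators which commute with the fermions (helper38)
-/

set_option autoImplicit false

namespace Cfsg.Agent.PQ.Val

open Finset Module Cfsg.Agent.PQ.Th Cfsg.Agent.PQ.Rel
open scoped ComplexConjugate

attribute [local instance] Loc.fI Loc.dI

variable {V : Type} [AddCommGroup V] [Module ℂ V] {H : HS V} {Cy : Cyc H}

/-- `lf` as an algebra homomorphism -/
noncomputable def lfA : End ℂ V →ₐ[ℂ] End ℂ (ℤ →₀ V) where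
  toFun := lf
  map_one' := Finsupp.lhom_ext fun _ _ => by rw [lf_single]; rfl
  map_mul' _ _ := Finsupp.lhom_ext fun _ _ => by simp only [End.mul_apply, lf_single]
  map_zero' := Finsupp.lhom_ext fun _ _ => by simp [lf_single]
  map_add' _ _ := Finsupp.lhom_ext fun _ _ => by simp [lf_single]
  commutes' _ := Finsupp.lhom_ext fun _ _ => by simp [lf_single]

/-- vectors of vacuum type for a sea -/
def VacS (Cy : Cyc H) (S : Site → Prop) : Submodule ℂ (ℤ →₀ V) where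
  carrier := {v | (∀ c, S c → Cy.ps c v = 0) ∧ ∀ c, ¬ S c → Cy.pt c v = 0}
  zero_mem' := ⟨fun _ _ => map_zero _, fun _ _ => map_zero _⟩
  add_mem' := fun {u v} hu hv => ⟨fun c hc => by rw [map_add, hu.1 c hc, hv.1 c hc, add_zero],
    fun c hc => by rw [map_add, hu.2 c hc, hv.2 c hc, add_zero]⟩
  smul_mem' := fun a {u} hu => ⟨fun c hc => by rw [map_smul, hu.1 c hc, smul_zero],
    fun c hc => by rw [map_smul, hu.2 c hc, smul_zero]⟩

/-- orthogonal complement -/
def perp (H : HS V) (W : Submodule ℂ V) : Submodule ℂ V where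
  carrier := {y | ∀ w ∈ W, H.ip y w = 0}
  zero_mem' := fun _ _ => ip_zero_left _
  add_mem' := fun hu hv w hw => by rw [ip_add_left, hu w hw, hv w hw, add_zero]
  smul_mem' := fun a _ hu w hw => by rw [ip_smul_left, hu w hw, mul_zero]

variable (P : Loc Cy)

theorem sig_surj (j : ℕ) (c : Site) : ∃ c', P.sig j c' = c :=
  ⟨(xor c.1 (P.ng && decide (Odd j)), c.2 - P.k * j), by simp [Loc.sig]⟩

theorem sig_lt {j : ℕ} (hj : 0 < j) (c : Site) : c.2 < (P.sig j c).2 := by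
  have := Nat.mul_pos P.k_pos hj
  simp only [Loc.sig]
  omega

theorem sig_sea {j : ℕ} (hj : 0 < j) (c : Site) (h : Sea (P.sig j c)) : Sea c := by
  have := sig_lt P hj c
  unfold Sea at *
  split_ifs at h ⊢ <;> omega

theorem anti (hC : CAR Cy) {c c' : Site} (h : c ≠ c') (y : ℤ →₀ V) : Cy.ps c (Cy.pt c' y) = -Cy.pt c' (Cy.ps c y) := by
  have := LinearMap.congr_fun (hC.st c c') y
  rw [if_neg h] at this
  exact eq_neg_of_add_eq_zero_left this

theorem aa_mem {j : ℕ} (W : Submodule ℂ (ℤ →₀ V)) (x : H.fock.ι) (h : ∀ c, Cy.ps (P.sig j c) (Cy.pt c (H.fock.b x)) ∈ W) :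
    P.aa Set.univ j (H.fock.b x) ∈ W := by
  rw [Loc.aa, mk_b]
  exact finsum_mem_induction (· ∈ W) W.zero_mem (fun _ _ => W.add_mem) fun c _ => h c

theorem aa_perp (hC : CAR Cy) {S : Site → Prop} {j : ℕ} (hj : 0 < j) (hS : ∀ c, S (P.sig j c) → S c) (y : ℤ →₀ V) :
    P.aa Set.univ j y ∈ perp H.fock (VacS Cy S) :=
  Rel.map_sup (P := fun _ => True) (fun x _ => aa_mem P (perp H.fock (VacS Cy S)) x fun c w hw => by
    by_cases h : S (P.sig j c)
    · rw [anti hC (fun e => (sig_lt P hj c).ne' (congrArg Prod.snd e)), ← neg_one_smul ℂ, ip_smul_left,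
        adj_symm (hC.adj c), hw.1 c (hS c h), ip_zero_right, mul_zero]
    · rw [hC.adj, hw.2 _ h, ip_zero_right]) fun _ h => (h trivial).elim

theorem aa_hm (hC : CAR Cy) (j : ℕ) : Hm H (P.aa Set.univ j) (0, P.k * j) := Hm.of fun x => aa_mem P _ x fun c => by
  convert ps_hm Cy _ _ _ (pt_hm hC c _ _ (b_sec x)) using 2
  simp [Loc.sig, Prod.ext_iff]

theorem aa_eq (hC : CAR Cy) {j : ℕ} (hj : 0 < j) {s : ℤ × ℤ} {N : ℤ} (hN : s.2 ≤ N) {y : ℤ →₀ V} (hy : y ∈ Sec H s) :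
    P.aa Set.univ j y = (∑ c ∈ univ ×ˢ Icc (-N - P.k * j) N, Cy.ps (P.sig j c) * Cy.pt c) y := by
  refine ext_sup (fun x hx => ?_) hy
  rw [Loc.aa, mk_b, finsum_mem_univ, LinearMap.sum_apply]
  refine finsum_eq_sum_of_support_subset _ fun c hc => ?_
  by_contra h
  simp only [coe_product, coe_univ, coe_Icc, Set.mem_prod, Set.mem_univ, true_and, Set.mem_Icc, not_and_or, not_le] at h
  refine hc ?_
  beta_reduce
  rcases h with h | h
  · rw [anti hC (fun e => (sig_lt P hj c).ne' (congrArg Prod.snd e)), sec_neg ?_ (ps_hm Cy _ _ _ (b_sec x)), map_zero, neg_zero]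
    simp only [Prod.snd_add, hx, Loc.sig]
    omega
  · rw [sec_neg ?_ (pt_hm hC _ _ _ (b_sec x)), map_zero]
    simp only [Prod.snd_add, hx, Prod.snd_neg]
    omega

theorem aa_comm (hC : CAR Cy) {j : ℕ} (hj : 0 < j) {A : End ℂ (ℤ →₀ V)} {δ : ℤ × ℤ} (h : Hm H A δ)
    (h1 : ∀ c, Commute A (Cy.ps c)) (h2 : ∀ c, Commute A (Cy.pt c)) : Commute A (P.aa Set.univ j) :=
  H.fock.b.ext fun x => by
    rw [End.mul_apply, End.mul_apply, aa_eq P hC hj (le_max_left _ (ce H x + δ).2) (b_sec x),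
      aa_eq P hC hj (le_max_right (ce H x).2 _) (h _ _ (b_sec x))]
    exact LinearMap.congr_fun (Commute.sum_right _ _ _ fun c _ => (h1 _).mul_right (h2 _)).eq _

theorem od_sh (ng : Bool) (j : ℕ) (a : ZMod 4) : Od (a + sh ng j) ↔ Od a := by
  unfold sh
  split_ifs
  · generalize (j : ZMod 4) = b
    unfold Od
    revert a b
    decide
  · rw [add_zero]

theorem D_Sv (j : ℕ) (α : P.I → ℂ) (r δ : ℤ) : ∀ y ∈ Sv H r δ, P.D j α y ∈ Sv H (r + P.k * j) δ := fun _ hy =>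
  Sv_map (hom_gr (P.D_hom j α)) (hom_df (P.D_hom j α)) (od_sh _ _) hy

theorem Ds_Sv (j : ℕ) (α : P.I → ℂ) (r δ : ℤ) : ∀ y ∈ Sv H r δ, P.Ds j α y ∈ Sv H (r + -(P.k * j)) δ := fun _ hy =>
  Sv_map (adj_gr (P.D_adj j α) (hom_gr (P.D_hom j α))) (adj_df (P.D_adj j α) (hom_df (P.D_hom j α)))
    (fun a => by rw [← od_sh P.ng j, neg_add_cancel_right]) hy

/-- the sign of the hat: `ε` on the odd part, `1` on the even part -/
noncomputable def sg (δ : ℤ) : ℂ := if P.ng then 2 * δ - 1 else 1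

theorem hat_Sv (j : ℕ) {r δ : ℤ} (hδ : δ = 0 ∨ δ = 1) {y : V} (hy : y ∈ Sv H r δ) : P.hat j y = sg P δ ^ j • y := by
  unfold Loc.hat sg
  by_cases h : P.ng = true
  · rcases Nat.even_or_odd j with e | e
    · rw [if_neg (by simp [e]), if_pos h]
      rcases hδ with rfl | rfl <;> norm_num [e.neg_one_pow]
    · rw [if_pos ⟨h, e⟩, if_pos h, LinearMap.neg_apply, J_Sv hy]
      rcases hδ with rfl | rfl <;> norm_num [e.neg_one_pow]
  · simp [h]

theorem hat_comm (j l : ℕ) (α : P.I → ℂ) : Commute (P.hat j) (P.D l α) := by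
  unfold Loc.hat
  split_ifs
  · exact Commute.neg_left (J_comm (hom_df (P.D_hom l α)) (od_sh _ _))
  · exact Commute.one_left _

theorem hat_hat (j l : ℕ) : Commute (P.hat j) (P.hat l) := by
  unfold Loc.hat
  split_ifs <;> simp

theorem Dh_Dh (j l : ℕ) (α β : P.I → ℂ) : Commute (P.Dh j α) (P.Dh l β) :=
  (((hat_hat P j l).mul_right (hat_comm P j l β)).mul_left
    ((hat_comm P l j α).symm.mul_right (P.DD j α l β))).map lfA

theorem Dh_hm (j : ℕ) (α : P.I → ℂ) : Hm H (P.Dh j α) (0, P.k * j) := lf_hm fun r δ _ hy => map_sup (fun i hi => by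
  have := D_Sv P j α r δ _ (b_mem hi)
  rw [End.mul_apply, hat_Sv P j (hi.2 ▸ dl_cases i) this]
  exact Submodule.smul_mem _ _ this) hy

/-- the local operators with the hat, as a linear map -/
noncomputable def DhL (j : ℕ) : (P.I → ℂ) →ₗ[ℂ] End ℂ (ℤ →₀ V) := lfA.toLinearMap ∘ₗ LinearMap.mulLeft ℂ (P.hat j) ∘ₗ P.D j

/-- the coefficient as a linear form -/
noncomputable def cfL (j : ℕ) : (P.I → ℂ) →ₗ[ℂ] ℂ where
  toFun := P.cf j
  map_add' α β := by simp only [Loc.cf, Pi.add_apply, add_mul, Finset.sum_add_distrib, add_div]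
  map_smul' a α := by simp only [Loc.cf, Pi.smul_apply, smul_eq_mul, mul_assoc, ← Finset.mul_sum, RingHom.id_apply, mul_div_assoc]

/-- **the operators which commute with the fermions** -/
noncomputable def pp (j : ℕ) : (P.I → ℂ) →ₗ[ℂ] End ℂ (ℤ →₀ V) := DhL P j - (cfL P j).smulRight (P.aa Set.univ j)

theorem pp_apply (j : ℕ) (α : P.I → ℂ) : pp P j α = P.Dh j α - P.cf j α • P.aa Set.univ j := rfl

theorem pp_zero (α : P.I → ℂ) : pp P 0 α = 0 := by
  rw [pp_apply, Loc.Dh, P.D0, mul_zero, show lf (0 : End ℂ V) = 0 from map_zero lfA]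
  simp [Loc.cf, nn, ep]

theorem pp_hm (hC : CAR Cy) (j : ℕ) (α : P.I → ℂ) : Hm H (pp P j α) (0, P.k * j) := fun s u hu =>
  sub_mem (Dh_hm P j α s u hu) (Submodule.smul_mem _ _ (aa_hm P hC j s u hu))

variable {P} {A : Ar P.k P.I}

theorem pp_ps (hR : Rel P) (hH : Hei P A) (j : ℕ) (α : P.I → ℂ) (c : Site) : Commute (pp P j α) (Cy.ps c) := by
  rcases Nat.eq_zero_or_pos j with rfl | hj
  · rw [pp_zero]; exact Commute.zero_left _
  have := hH.aa_s Set.univ j c hj
  rw [Set.preimage_univ, if_pos (Set.mem_univ _)] at this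
  rw [Commute, SemiconjBy, pp_apply, sub_mul, mul_sub, smul_mul_assoc, mul_smul_comm, this, hR.s, smul_add,
    add_sub_add_right_eq_sub]

theorem pp_pt (hR : Rel P) (hH : Hei P A) (j : ℕ) (α : P.I → ℂ) (c : Site) : Commute (pp P j α) (Cy.pt c) := by
  rcases Nat.eq_zero_or_pos j with rfl | hj
  · rw [pp_zero]; exact Commute.zero_left _
  obtain ⟨c, rfl⟩ := sig_surj P j c
  have := hH.aa_t Set.univ j c hj
  rw [Set.preimage_univ, if_pos (Set.mem_univ _)] at this
  rw [Commute, SemiconjBy, pp_apply, sub_mul, mul_sub, smul_mul_assoc, mul_smul_comm, this, hR.t, smul_sub,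
    sub_sub_sub_cancel_right]

theorem pp_pp (hC : CAR Cy) (hR : Rel P) (hH : Hei P A) (j l : ℕ) (α β : P.I → ℂ) : Commute (pp P j α) (pp P l β) := by
  rcases Nat.eq_zero_or_pos j with rfl | hj
  · rw [pp_zero]; exact Commute.zero_left _
  rcases Nat.eq_zero_or_pos l with rfl | hl
  · rw [pp_zero]; exact Commute.zero_right _
  have h1 : ∀ j l α, 0 < l → Commute (pp P j α) (P.aa Set.univ l) := fun j l α hl =>
    aa_comm P hC hl (pp_hm P hC j α) (pp_ps hR hH j α) (pp_pt hR hH j α)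
  have h2 : Commute (P.aa Set.univ j) (P.Dh l β) := by
    rw [show P.Dh l β = pp P l β + P.cf l β • P.aa Set.univ l by rw [pp_apply, sub_add_cancel]]
    exact (h1 l j β hj).symm.add_right ((hH.aa_aa Set.univ Set.univ j l hj hl).smul_right _)
  rw [pp_apply P l]
  refine Commute.sub_right ?_ ((h1 j l α hl).smul_right _)
  rw [pp_apply]
  exact (Dh_Dh P j l α β).sub_left (h2.smul_left _)

theorem vac_of_comm {B : End ℂ (ℤ →₀ V)} (h1 : ∀ c, Commute B (Cy.ps c)) (h2 : ∀ c, Commute B (Cy.pt c)) {v : ℤ →₀ V}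
    (hv : v ∈ Cy.Vac) : B v ∈ Cy.Vac :=
  ⟨fun c hc => by rw [← End.mul_apply, ← (h1 c).eq, End.mul_apply, hv.1 c hc, map_zero],
    fun c hc => by rw [← End.mul_apply, ← (h2 c).eq, End.mul_apply, hv.2 c hc, map_zero]⟩

theorem Dsh_vac (hR : Rel P) {S : Site → Prop} {j : ℕ} (hS : ∀ c, S (P.sig j c) → S c) (α : P.I → ℂ) {v : ℤ →₀ V}
    (hv : v ∈ VacS Cy S) : P.Dsh j α v ∈ VacS Cy S := by
  refine ⟨fun c hc => ?_, fun c hc => ?_⟩
  · obtain ⟨c, rfl⟩ := sig_surj P j c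
    have := LinearMap.congr_fun (hR.s' j α c) v
    simpa [hv.1 _ hc, hv.1 _ (hS c hc), eq_comm] using this
  · have := LinearMap.congr_fun (hR.t' j α c) v
    simpa [hv.2 _ hc, hv.2 _ fun h => hc (hS c h), eq_comm] using this

theorem PL_eq (hC : CAR Cy) (hR : Rel P) (hH : Hei P A) {c : ZMod (A.p ^ A.b)} (hc : c ≠ 0) {j : ℕ} (hj : 0 < j)
    (ha : j ≤ A.a) : P.PL A c j = pp P j (P.wt A j c) := by
  have h1 : P.PL A c j - pp P j (P.wt A j c) = (1 + P.cf j (P.wt A j c)) • P.aa Set.univ j := by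
    rw [pp_apply, Loc.PL, add_smul, one_smul]; abel
  obtain ⟨x, hx⟩ := sig_surj P j (true, 0)
  have h2 := ((hH.pl_s c j x hc hj ha).sub_left (pp_ps hR hH j (P.wt A j c) x)).eq
  have h3 := hH.aa_s Set.univ j x hj
  rw [Set.preimage_univ, if_pos (Set.mem_univ _), hx] at h3
  rw [h1, smul_mul_assoc, mul_smul_comm, h3, smul_add, add_eq_left] at h2
  have h4 := congrArg (fun B => ((1 + P.cf j (P.wt A j c)) • B) Cy.Om) (hC.st (true, 0) (true, 0))
  simp only [smul_add, if_true] at h4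
  rw [← smul_mul_assoc, ← mul_smul_comm _ (Cy.pt _), h2, zero_mul, mul_zero, add_zero] at h4
  rw [← sub_eq_zero, h1, (smul_eq_zero.1 (show (1 + P.cf j (P.wt A j c)) • Cy.Om = 0 from h4.symm)).resolve_right
    (by simp [Cyc.Om, H.b.ne_zero]), zero_smul]

end Cfsg.Agent.PQ.Val
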