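import Cfsg.Agent.PQ.Val.INv

/-!
# PQ theta, box INT: power series of operators (helper38)
-/

set_option autoImplicit false

namespace Cfsg.Agent.PQ.Val

open Finset PowerSeries Module Cfsg.Agent.PQ.Th Cfsg.Agent.PQ.Rel
open scoped ComplexConjugate

variable {V : Type} [AddCommGroup V] [Module ℂ V]

/-- all coefficients map `S` into `T` -/
def Mp (A : (End ℂ V)⟦X⟧) (S T : Set V) : Prop := ∀ t, ∀ u ∈ S, coeff t A u ∈ T

section
variable {τ : Type} [SetLike τ V] [AddSubgroupClass τ V] {A B : (End ℂ V)⟦X⟧} {S T : Set V} {U : τ}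

theorem coeff_mul_apply (A B : (End ℂ V)⟦X⟧) (t : ℕ) (u : V) :
    coeff t (A * B) u = ∑ x ∈ antidiagonal t, coeff x.1 A (coeff x.2 B u) := by
  rw [coeff_mul, LinearMap.sum_apply]; rfl

theorem Mp.mul (hA : Mp A T U) (hB : Mp B S T) : Mp (A * B) S U := fun t u hu => by
  rw [coeff_mul_apply]
  exact sum_mem fun x _ => hA _ _ (hB _ _ hu)

theorem Mp.C {A : End ℂ V} (h : ∀ u ∈ S, A u ∈ U) : Mp (C A) S U := fun t u hu => by
  rw [coeff_C]
  split_ifs
  · exact h u hu
  · exact zero_mem U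

theorem Mp.one : Mp (V := V) 1 U U := Mp.C (A := 1) fun _ h => h

theorem Mp.add (hA : Mp A S U) (hB : Mp B S U) : Mp (A + B) S U := fun t u hu => by
  rw [map_add]; exact add_mem (hA t u hu) (hB t u hu)

theorem Mp.pow (hA : Mp A U U) (n : ℕ) : Mp (A ^ n) U U := by
  induction n with
  | zero => rw [pow_zero]; exact Mp.one
  | succ n ih => rw [pow_succ]; exact ih.mul hA

theorem Mp.X : Mp (V := V) X U U := fun t u hu => by
  rw [coeff_X]
  split_ifs
  · exact hu
  · exact zero_mem U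

theorem Mp.inv (hA : Mp A U U) (h0 : coeff 0 A = 1) (h : A * B = 1) : Mp B U U := fun t => by
  induction t using Nat.strong_induction_on with
  | _ t ih =>
    intro u hu
    have h1 : coeff t (A * B) u ∈ U := h ▸ Mp.one t u hu
    rw [coeff_mul_apply, ← Finset.add_sum_erase _ _ (show (0, t) ∈ antidiagonal t by simp), h0] at h1
    refine (add_mem_cancel_right (sum_mem fun x hx => hA _ _ (ih _ ?_ _ hu))).1 h1
    obtain ⟨h2, h3⟩ := mem_erase.1 hx
    have h4 := mem_antidiagonal.1 h3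
    by_contra h5
    exact h2 (Prod.ext (by simp only; omega) (by simp only; omega))

end

/-- the series which map `S` into `T` -/
def MpS (S : Set V) (T : Submodule ℂ V) : Submodule ℂ (End ℂ V)⟦X⟧ where
  carrier := {A | Mp A S T}
  zero_mem' := fun _ _ _ => zero_mem T
  add_mem' := Mp.add
  smul_mem' := fun c _ h t u hu => T.smul_mem c (h t u hu)

theorem comm_of_coeff {A B : (End ℂ V)⟦X⟧} (h : ∀ s t, Commute (coeff s A) (coeff t B)) : Commute A B := by
  refine PowerSeries.ext fun m => ?_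
  rw [coeff_mul, coeff_mul, ← Finset.Nat.sum_antidiagonal_swap]
  exact Finset.sum_congr rfl fun x _ => (h _ _).eq

/-- scalar series -/
noncomputable def io : ℂ⟦X⟧ →ₐ[ℂ] (End ℂ V)⟦X⟧ := PowerSeries.mapAlgHom (Algebra.ofId ℂ _)

theorem coeff_io (s : ℂ⟦X⟧) (t : ℕ) : coeff t (io s : (End ℂ V)⟦X⟧) = coeff t s • (1 : End ℂ V) :=
  (coeff_map _ _ _).trans (Algebra.algebraMap_eq_smul_one _)

theorem io_comm (s : ℂ⟦X⟧) (A : (End ℂ V)⟦X⟧) : Commute (io s) A :=
  comm_of_coeff fun _ _ => by rw [coeff_io]; exact (Commute.one_left _).smul_left _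

theorem io_X : (io X : (End ℂ V)⟦X⟧) = X := map_X _

theorem io_C (a : ℂ) (A : (End ℂ V)⟦X⟧) : io (C a) * A = a • A := by
  rw [Algebra.smul_def, ← AlgHom.commutes io]; rfl

theorem Mp.io (s : ℂ⟦X⟧) (S : Submodule ℂ V) : Mp (V := V) (io s) S S := fun t u hu => by
  rw [coeff_io]; exact S.smul_mem _ hu

/-- a family of operators on series of weights -/
noncomputable def ex {J : Type} (Φ : (J → ℂ) → End ℂ V) (α : J → ℂ⟦X⟧) : (End ℂ V)⟦X⟧ :=
  PowerSeries.mk fun t => Φ fun i => coeff t (α i)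

theorem coeff_ex {J : Type} (Φ : (J → ℂ) → End ℂ V) (α : J → ℂ⟦X⟧) (t : ℕ) : coeff t (ex Φ α) = Φ fun i => coeff t (α i) :=
  coeff_mk _ _

section
variable {J : Type} (Φ : (J → ℂ) →ₗ[ℂ] End ℂ V)

theorem ex_add (α β : J → ℂ⟦X⟧) : ex Φ (fun i => α i + β i) = ex Φ α + ex Φ β := by
  refine PowerSeries.ext fun t => ?_
  rw [map_add, coeff_ex, coeff_ex, coeff_ex, ← map_add]
  exact congrArg Φ (funext fun i => map_add _ _ _)

theorem ex_mul (s : ℂ⟦X⟧) (α : J → ℂ⟦X⟧) : ex Φ (fun i => s * α i) = io s * ex Φ α := by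
  refine PowerSeries.ext fun t => ?_
  simp only [coeff_mul, coeff_ex, coeff_io, smul_mul_assoc, one_mul, ← map_smul, ← map_sum]
  congr 1
  funext i
  simp

theorem ex_C (a : J → ℂ) : ex Φ (fun i => C (a i)) = C (Φ a) := by
  refine PowerSeries.ext fun t => ?_
  simp only [coeff_ex, coeff_C]
  split_ifs
  · rfl
  · exact map_zero Φ

theorem ex_sum [Fintype J] [DecidableEq J] (α : J → ℂ⟦X⟧) : ex Φ α = ∑ i, io (α i) * C (Φ (Pi.single i 1)) := by
  refine PowerSeries.ext fun t => ?_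
  simp only [map_sum, coeff_ex, coeff_mul_C, coeff_io, smul_mul_assoc, one_mul, ← map_smul]
  rw [← map_sum]
  congr 1
  funext i
  simp [Pi.single_apply]

end

theorem ex_alg {J : Type} (Φ : (J → ℂ) →ₐ[ℂ] End ℂ V) (α β : J → ℂ⟦X⟧) : ex Φ (fun i => α i * β i) = ex Φ α * ex Φ β := by
  refine PowerSeries.ext fun t => ?_
  simp only [coeff_mul, coeff_ex, ← map_mul, ← map_sum]
  congr 1
  funext i
  simp

variable {H : HS V}

/-- adjoint series -/
def Ad (H : HS V) (A B : (End ℂ V)⟦X⟧) : Prop := ∀ t, H.Adj (coeff t A) (coeff t B)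

theorem adj_zero : H.Adj (0 : End ℂ V) 0 := fun _ _ => by
  rw [LinearMap.zero_apply, LinearMap.zero_apply, ip_zero_left, ip_zero_right]

theorem adj_sum {ι : Type} (s : Finset ι) {A B : ι → End ℂ V} (h : ∀ i ∈ s, H.Adj (A i) (B i)) :
    H.Adj (∑ i ∈ s, A i) (∑ i ∈ s, B i) := by
  classical
  induction s using Finset.induction_on with
  | empty => exact adj_zero
  | insert x s hx ih =>
    rw [Finset.sum_insert hx, Finset.sum_insert hx]
    exact adj_add (h _ (mem_insert_self _ _)) (ih fun i hi => h i (mem_insert_of_mem hi))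

theorem Ad.mul {A B A' B' : (End ℂ V)⟦X⟧} (h : Ad H A B) (h' : Ad H A' B') : Ad H (A * A') (B' * B) := fun t => by
  rw [coeff_mul, coeff_mul, ← Finset.Nat.sum_antidiagonal_swap]
  exact adj_sum _ fun x _ => adj_mul (h _) (h' _)

theorem Ad.C {A B : End ℂ V} (h : H.Adj A B) : Ad H (C A) (C B) := fun t => by
  rw [coeff_C, coeff_C]
  split_ifs
  · exact h
  · exact adj_zero

theorem Ad.sum {ι : Type} (s : Finset ι) {A B : ι → (End ℂ V)⟦X⟧} (h : ∀ i ∈ s, Ad H (A i) (B i)) :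
    Ad H (∑ i ∈ s, A i) (∑ i ∈ s, B i) := fun t => by
  rw [map_sum, map_sum]
  exact adj_sum _ fun i hi => h i hi t

theorem Ad.unique {A B B' : (End ℂ V)⟦X⟧} (h : Ad H A B) (h' : Ad H A B') : B = B' :=
  PowerSeries.ext fun t => adj_unique (h t) (h' t)

theorem Ad.nv {P Q : ℕ → (End ℂ V)⟦X⟧} (h : ∀ j, Ad H (P j) (Q j)) (hc : ∀ i j, Commute (P i) (P j)) (n : ℕ) :
    Ad H (nv P n) (nv Q n) := by
  induction n using Nat.strong_induction_on with
  | _ n ih =>
    cases n with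
    | zero => rw [nv_zero, nv_zero]; exact Ad.C adj_one
    | succ n =>
      rw [nv_succ' hc, nv_succ]
      intro t
      have := adj_smul (Ad.sum (antidiagonal n) (fun x hx => (ih x.2 (by
        have := mem_antidiagonal.1 hx; omega)).mul (h (x.1 + 1))) t) ((n + 1 : ℂ)⁻¹)
      rwa [map_inv₀, map_add, map_natCast, map_one] at this

theorem adj_nw {P Q : ℕ → End ℂ V} (h : ∀ j, H.Adj (P j) (Q j)) (hc : ∀ i j, Commute (P i) (P j)) (n : ℕ) :
    H.Adj (nv P n) (nv Q n) := by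
  induction n using Nat.strong_induction_on with
  | _ n ih =>
    cases n with
    | zero => rw [nv_zero, nv_zero]; exact adj_one
    | succ n =>
      rw [nv_succ' hc, nv_succ]
      have := adj_smul (adj_sum (antidiagonal n) (fun x hx => adj_mul (ih x.2 (by
        have := mem_antidiagonal.1 hx; omega)) (h (x.1 + 1)))) ((n + 1 : ℂ)⁻¹)
      rwa [map_inv₀, map_add, map_natCast, map_one] at this

/-- constant series -/
noncomputable def CA : End ℂ V →ₐ[ℂ] (End ℂ V)⟦X⟧ := 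
  { (C : End ℂ V →+* (End ℂ V)⟦X⟧) with commutes' := fun _ => PowerSeries.algebraMap_apply.symm }

theorem C_nv (P : ℕ → End ℂ V) (n : ℕ) : C (nv P n) = nv (fun j => C (P j)) n := nv_map CA P n

end Cfsg.Agent.PQ.Val
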