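import Cfsg.Agent.PQ.Val.ICore

/-!
# PQ theta, box INT (helper38)
-/

set_option autoImplicit false

namespace Cfsg.Agent.PQ.Val

open Finset PowerSeries Module Cfsg.Agent.PQ.Th Cfsg.Agent.PQ.Rel
open scoped ComplexConjugate

attribute [local instance] Loc.fI Loc.dI

variable {V : Type} [AddCommGroup V] [Module ℂ V] {H : HS V} {Cy : Cyc H}

theorem map_Z {Q : H.ι → Prop} {B : End ℂ V} (h : ∀ i, Q i → B (H.b i) ∈ H.Z) {u : V} (hu : u ∈ H.sup Q) (hz : u ∈ H.Z) :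
    B u ∈ H.Z := by
  rw [← H.b.linearCombination_repr u, Finsupp.linearCombination_apply, Finsupp.sum, map_sum]
  refine sum_mem fun i hi => ?_
  obtain ⟨n, hn⟩ := hz i
  rw [map_smul, hn, Int.cast_smul_eq_zsmul]
  exact zsmul_mem (h i (by_contra fun e => Finsupp.mem_support_iff.1 hi (hu i e))) n

theorem Mp.one_add_X {τ : Type} [SetLike τ V] [AddSubgroupClass τ V] {U : τ} : Mp (V := V) (Val.io (1 + PowerSeries.X)) U U := by
  rw [map_add, map_one, io_X]
  exact Mp.one.add Mp.X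

theorem one_add_X_inv : (1 + X : ℂ⟦X⟧) * (1 + X)⁻¹ = 1 := PowerSeries.mul_inv_cancel _ (by simp)

variable {P : Loc Cy} (A : Ar P.k P.I)

/-- the eigenvalues of the multiplication operator -/
noncomputable def cW (x : ZMod (A.p ^ A.b)) (i : P.I) : ℂ⟦X⟧ := (A.W x (A.ζ i) : ℂ⟦X⟧) * (1 + X)⁻¹ ^ (2 * P.k)

theorem cW_zero (x : ZMod (A.p ^ A.b)) (i : P.I) : constantCoeff (cW A x i) = 1 := by
  simp [cW, Ar.W, Polynomial.coeff_zero_eq_eval_zero, Polynomial.eval_prod]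

variable {A}

theorem It_cW (hL : Lab P A) (x : ZMod (A.p ^ A.b)) : It P (P.k * A.a) (cW A x) := fun m hm => by
  rcases lt_or_ge m 0 with h0 | h0
  · intro t u hu
    rw [gr_neg h0 hu.1, map_zero]
    exact zero_mem (Lz H m)
  obtain ⟨m, rfl⟩ := Int.eq_ofNat_of_zero_le h0
  have h1 : Mp (io ((1 + X) ^ (2 * m)) * Nn P (cW A x)) (Lz H m) (Lz H m) := fun t u hu =>
    ⟨(Mp.io _ (H.gr m)).mul (Nn_gr P _ m) t u hu.1, map_Z (fun y hy => by
      have hy : H.rk y = m := by exact_mod_cast hy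
      have h2 := hL.lift x t y (by rw [hy]; exact_mod_cast hm)
      rw [show io ((1 + X) ^ (2 * m)) * Nn P (cW A x) = _ from (ex_mul P.mul.toLinearMap _ _).symm, coeff_ex]
      convert h2 using 1
      rw [← sub_eq_zero, ← LinearMap.sub_apply, AlgHom.toLinearMap_apply, ← map_sub]
      refine P.mul_supp _ _ fun v hv => ?_
      rw [Pi.sub_apply, sub_eq_zero, Ar.lam, ← Polynomial.coeff_coe]
      congr 1
      obtain ⟨n, hn⟩ := Nat.exists_eq_add_of_le hv
      rw [hn, Nat.add_sub_cancel_left, ← hy, hn, Polynomial.coe_mul, ← Polynomial.coeToPowerSeries.ringHom_apply, map_prod]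
      simp only [cW, mul_pow, Finset.prod_mul_distrib, Finset.prod_pow_eq_pow_sum, map_pow, Polynomial.coe_pow,
        Polynomial.coeToPowerSeries.ringHom_apply, Polynomial.coe_add, Polynomial.coe_one, Polynomial.coe_X]
      rw [mul_add, pow_add, ← pow_mul, ← mul_assoc 2, mul_left_comm, mul_right_comm, ← mul_pow, one_add_X_inv, one_pow,
        one_mul]) hu.1 hu.2⟩
  have h2 : Mp (V := V) (io (1 + X)⁻¹) (Lz H m) (Lz H m) :=
    Mp.one_add_X.inv (by simp [io_X]) (by rw [← map_mul, one_add_X_inv, map_one])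
  have h3 := (h2.pow (2 * m)).mul h1
  rwa [← mul_assoc, ← map_pow, ← map_mul, ← mul_pow, mul_comm _ (1 + X), one_add_X_inv, one_pow, map_one, one_mul] at h3

theorem It_inv {K : ℤ} {c : P.I → ℂ⟦X⟧} (h0 : ∀ i, constantCoeff (c i) = 1) (h : It P K c) : It P K fun i => (c i)⁻¹ :=
  fun m hm => (h m hm).inv (by
    simp only [Nn, coeff_ex, coeff_zero_eq_constantCoeff, map_prod, map_pow, h0, one_pow, Finset.prod_const_one]
    exact map_one P.mul) (Nn_mul P fun i => PowerSeries.mul_inv_cancel _ (by simp [h0]))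

/-- vacuum vectors of rank `m`, integral if `m ≤ K` -/
def Gm (Cy : Cyc H) (K m : ℤ) : AddSubgroup (ℤ →₀ V) where
  carrier := {y | y ∈ Sec H (1, m) ∧ y ∈ Cy.Vac ∧ (m ≤ K → y ∈ H.fock.Z)}
  zero_mem' := ⟨zero_mem _, zero_mem _, fun _ => zero_mem _⟩
  add_mem' := fun h h' => ⟨add_mem h.1 h'.1, add_mem h.2.1 h'.2.1, fun e => add_mem (h.2.2 e) (h'.2.2 e)⟩
  neg_mem' := fun h => ⟨neg_mem h.1, neg_mem h.2.1, fun e => neg_mem (h.2.2 e)⟩

/-- the operators which preserve the sum of the `Gm` -/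
def St (Cy : Cyc H) (K : ℤ) : Subring (End ℂ (ℤ →₀ V)) where
  carrier := {B | ∀ y ∈ ⨆ m, Gm Cy K m, B y ∈ ⨆ m, Gm Cy K m}
  zero_mem' := fun _ _ => zero_mem _
  one_mem' := fun _ h => h
  add_mem' := fun h h' y hy => add_mem (h y hy) (h' y hy)
  neg_mem' := fun h y hy => neg_mem (h y hy)
  mul_mem' := fun h h' y hy => h _ (h' y hy)

theorem mem_St {K δ : ℤ} {B : End ℂ (ℤ →₀ V)} (h : ∀ m, ∀ y ∈ Gm Cy K m, B y ∈ Gm Cy K (m + δ)) : B ∈ St Cy K := fun _ hy =>
  (iSup_le fun m y hy => AddSubgroup.mem_iSup_of_mem (m + δ) (h m y hy) :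
    ⨆ m, Gm Cy K m ≤ (⨆ m, Gm Cy K m).comap B.toAddMonoidHom) hy

theorem Z_of_Gm {K m : ℤ} (hm : m ≤ K) {y : ℤ →₀ V} (h1 : y ∈ ⨆ m, Gm Cy K m) (h2 : y ∈ Sec H (1, m)) : y ∈ H.fock.Z := fun x => by
  by_cases hx : ce H x = (1, m)
  · refine AddSubgroup.iSup_induction (C := fun y => ∃ n : ℤ, H.fock.b.repr y x = n) _ h1 (fun r z hz => ?_) ⟨0, by simp⟩
      fun _ _ ⟨a, ha⟩ ⟨b, hb⟩ => ⟨a + b, by simp [ha, hb]⟩
    by_cases e : r = m
    · exact hz.2.2 (e ▸ hm) x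
    · exact ⟨0, by rw [hz.1 x fun e' => e (congrArg Prod.snd (e'.symm.trans hx)), Int.cast_zero]⟩
  · exact ⟨0, by rw [h2 x hx, Int.cast_zero]⟩

theorem Zp_Gm (hC : CAR Cy) (hR : Rel P) (hL : Lab P A) (hH : Hei P A) (x : ZMod (A.p ^ A.b)) (n : ℕ) (m : ℤ) :
    Mp (Zp P (cW A x) n) (Gm Cy (P.k * A.a) m) (Gm Cy (P.k * A.a) (m + P.k * n)) := fun t y hy => by
  refine ⟨by simpa using Zp_hm hC (cW A x) n _ t y hy.1, Zp_vac hR hH _ n t hy.2.1, fun e => ?_⟩
  rcases lt_or_ge m 0 with h0 | h0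
  · rw [sec_neg h0 hy.1, map_zero]
    exact zero_mem _
  obtain ⟨m, rfl⟩ := Int.eq_ofNat_of_zero_le h0
  obtain ⟨u, hu, rfl⟩ := sec_one hy.1
  exact core hC hR hH _ (m + P.k * n) (by exact_mod_cast e) _ (fun i => cj (cW A x i)⁻¹)
    (fun i => by rw [cj_cj]; exact PowerSeries.mul_inv_cancel _ (by simp [cW_zero])) (It_cW hL x)
    (It_inv (cW_zero A x) (It_cW hL x)).cj m n rfl u ⟨hu, hy.2.1⟩ (single_Z.1 (hy.2.2 (by nlinarith))) t

theorem nw_St' (hC : CAR Cy) (hR : Rel P) (hL : Lab P A) (hH : Hei P A) {R : Type} [CommRing R] [Algebra ℂ R]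
    (ψ : R →ₐ[ℂ] End ℂ (ℤ →₀ V)) (p : P.I → ℕ → R) (hp : ∀ i r, ψ (p i r) = pp P r (Pi.single i 1)) (c : ZMod (A.p ^ A.b)) (n : ℕ) :
    nv (fun j => pp P j (P.wt A j c)) n ∈ St Cy (P.k * A.a) := by
  obtain ⟨g, hg⟩ := ZMod.intCast_surjective A.g
  obtain ⟨x, rfl⟩ := ZMod.intCast_surjective c
  let τ : P.I → ℂˣ := fun i => A.χ.toMonoidHom.toHomUnits (Multiplicative.ofAdd (A.ζ i))
  have hτ : ∀ i (z : ℤ), ((τ i ^ z : ℂˣ) : ℂ) = A.χ (z * A.ζ i) := fun i z => by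
    simp only [τ, ← map_zpow, ← ofAdd_zsmul, zsmul_eq_mul]
    rfl
  let φ : Polynomial R →ₐ[ℂ] (End ℂ (ℤ →₀ V))⟦X⟧ :=
    { (PowerSeries.map (ψ : R →+* End ℂ (ℤ →₀ V))).comp Polynomial.coeToPowerSeries.ringHom with
      commutes' := fun z => by simp [PowerSeries.algebraMap_apply] }
  have hφ : ∀ f t, coeff t (φ f) = ψ (f.coeff t) := fun f t => by simp [φ]
  have h1 := neck (g := g) (d := 2 * P.k) (τ := τ) p (by have := P.k_pos; omega)
    (fun i => Units.ext (by rw [hτ, Int.cast_pow, hg, A.g_pow, one_mul]; rfl)) ((St Cy (P.k * A.a)).comap (ψ : R →+* _)) n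
    (fun y r _ t => ?_) x le_rfl
  · rw [Subring.mem_comap, RingHom.coe_coe, newt_eq, nv_map] at h1
    convert h1 using 3 with j
    simp only [Pl, map_sum, map_smul, hp]
    simp only [← map_smul, ← map_sum]
    congr 1
    funext i
    simp only [Finset.sum_apply, Pi.smul_apply, Pi.single_apply, smul_eq_mul, mul_ite, mul_one, mul_zero, Finset.sum_ite_eq,
      mem_univ, if_true, os, hτ, Loc.wt, Ar.τ]
    push_cast
    congr 1
    exact Finset.sum_congr rfl fun s _ => by rw [hg]; congr 1; ring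
  · have h2 : ∀ j, φ (Zl g (2 * P.k) τ p y j) = io ((1 + X) ^ (2 * P.k)) ^ j * ex (pp P j) fun i => cW A y i ^ j - 1 := fun j => by
      rw [← map_pow, ← ex_mul, ex_sum, Zl, map_sum]
      refine Finset.sum_congr rfl fun i _ => PowerSeries.ext fun t => ?_
      rw [hφ, Polynomial.coeff_mul_C, map_mul, hp, coeff_mul_C, coeff_io, Polynomial.coeff_map, AlgHom.commutes,
        Algebra.algebraMap_eq_smul_one, ← Polynomial.coeff_coe]
      congr 3
      have : cf g (2 * P.k) τ y i = A.W y (A.ζ i) := Finset.prod_congr rfl fun s _ => by rw [hτ]; push_cast; rw [hg]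
      rw [this, mul_sub, ← mul_pow, cW, mul_left_comm, ← mul_pow, one_add_X_inv, one_pow, mul_one, mul_one, pow_mul]
      simp
    rw [Subring.mem_comap, RingHom.coe_coe, ← hφ, newt_eq, nv_map]
    simp only [h2]
    rw [nv_scale fun j => io_comm _ _, map_pow]
    exact mem_St fun m => ((Mp.one_add_X.pow _).pow r).mul (Zp_Gm hC hR hL hH y r m) t

open scoped IsMulCommutative in
theorem nw_St (hC : CAR Cy) (hR : Rel P) (hL : Lab P A) (hH : Hei P A) (c : ZMod (A.p ^ A.b)) (n : ℕ) :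
    nv (fun j => pp P j (P.wt A j c)) n ∈ St Cy (P.k * A.a) := by
  have := Algebra.isMulCommutative_adjoin ℂ (s := Set.range fun x : P.I × ℕ => pp P x.2 (Pi.single x.1 1)) (by
    rintro _ ⟨x, rfl⟩ _ ⟨y, rfl⟩
    exact pp_pp hC hR hH _ _ _ _)
  exact nw_St' (R := Algebra.adjoin ℂ (Set.range fun x : P.I × ℕ => pp P x.2 (Pi.single x.1 1))) hC hR hL hH (Subalgebra.val _)
    (fun i r => ⟨_, Algebra.subset_adjoin ⟨(i, r), rfl⟩⟩) (fun _ _ => rfl) c n

/-- **box INT** -/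
theorem boxINT : BoxINT := fun V _ _ H Cy P A hC hR hL hH l h1 h2 => by
  have h3 : (l.map fun y => nw (P.PL A y.1) y.2).prod ∈ St Cy (P.k * A.a) ∧
      Hm H (l.map fun y => nw (P.PL A y.1) y.2).prod (0, P.k * (l.map Prod.snd).sum) := by
    induction l with
    | nil => exact ⟨one_mem _, fun s u hu => by simpa [Prod.mk_zero_zero] using hu⟩
    | cons y l ih =>
      rw [List.map_cons, List.sum_cons] at h2
      obtain ⟨k1, k2⟩ := ih (fun z hz => h1 z (List.mem_cons_of_mem _ hz)) (by omega)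
      rw [List.map_cons, List.prod_cons, nw_eq, nv_congr (N := A.a)
        (fun j a1 a2 => PL_eq hC hR hH (h1 y List.mem_cons_self) a1 a2) (by omega)]
      refine ⟨mul_mem (nw_St hC hR hL hH _ _) k1, ?_⟩
      have k3 : Hm H (nv (fun j => pp P j (P.wt A j y.1)) y.2) (0, P.k * y.2) :=
        nv_ind (Q := fun j => pp P j (P.wt A j y.1)) (fun n x _ => Hm H x (0, P.k * n))
          (fun s u hu => by simpa [Prod.mk_zero_zero] using hu) (fun _ _ _ _ => zero_mem _)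
          (fun _ _ _ _ _ h h' s u hu => add_mem (h s u hu) (h' s u hu))
          (fun _ _ _ _ h s u hu => Submodule.smul_mem _ _ (h s u hu))
          (fun _ _ h => by convert (pp_hm P hC _ _).mul h using 1; simp; ring) _
      convert k3.mul k2 using 1
      simp; ring
  have h4 : Cy.Om ∈ Sec H (1, 0) := by
    have := b_sec (H := H) ⟨0, Cy.o⟩
    rw [fock_b] at this
    simpa [ce, HS.dl, Cy.o_df, Cy.o_rk, Od, Cyc.Om] using this
  refine Z_of_Gm (K := P.k * A.a) (m := P.k * (l.map Prod.snd).sum) (by exact_mod_cast Nat.mul_le_mul_left _ h2)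
    (h3.1 _ (AddSubgroup.mem_iSup_of_mem 0 ⟨h4, hC.om, fun _ => single_Z.2 (b_Z _)⟩)) (by simpa using h3.2 _ _ h4)

end Cfsg.Agent.PQ.Val
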