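import Cfsg.Agent.H614.Val

/-!
# PQ, value formula: lowering all beads on a system of runners (helper38)

* `ones_dvd` : the degree `FM (1 ^ w) β` divides `w !`;
* `multi` : `∏ w_i ! • E ^ n (X β) = n ! ∏ ω_i ^ w_i FM (1 ^ w_i) (β i) • X ground`;
* `multi_unit` : the coefficient is prime to every prime `p > n` which does not divide the weights.
-/

set_option autoImplicit false

namespace Cfsg.Agent.PQ.Val

open Cfsg Cfsg.Agent.H614 Finset

/-- the degrees divide the factorial -/
theorem ones_dvd {m w : ℕ} {β : Fin m → ℕ} (hβ : Function.Injective β) (hs : ∑ i, β i = w + ∑ i : Fin m, (i : ℕ)) :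
    FM (Multiset.replicate w 1) β ∣ (w.factorial : ℤ) := by
  set σ := Tuple.sort β with hσ
  have hst : StrictMono (β ∘ σ) := (Tuple.monotone_sort β).strictMono_of_injective (hβ.comp σ.injective)
  have hw : ∑ i, (β ∘ σ) i = w + ∑ i : Fin m, (i : ℕ) := (Equiv.sum_comp σ β).trans hs
  have hirr := isIrr_ch (α := Fin w) hst (by rw [Fintype.card_fin]; exact hw)
  have hdeg := Blocks.Knorr.charDegree_dvd hirr
  obtain ⟨d, -, hd'⟩ := ch_one_pos (α := Fin w) hst (by rw [Fintype.card_fin]; exact hw)
  rw [Blocks.Knorr.charDegree_of_natCast hd', Nat.card_eq_fintype_card, Fintype.card_perm, Fintype.card_fin] at hdeg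
  rw [ch_apply, ty_one, Fintype.card_fin] at hd'
  have h2 : FM (Multiset.replicate w 1) (β ∘ σ) = d := by exact_mod_cast hd'
  rw [FM_alt _ σ β, smul_eq_mul] at h2
  have h3 : FM (Multiset.replicate w 1) β = sg σ * d := by rw [← h2, ← mul_assoc, sg_mul_self, one_mul]
  rw [h3]
  exact (IsUnit.mul_left_dvd (IsUnit.of_mul_eq_one _ (sg_mul_self σ))).2 (Int.natCast_dvd_natCast.2 hdeg)

variable {W : Type*} [AddCommGroup W] [Module ℂ W]

theorem two_tor (w : W) (h : w + w = 0) : w = 0 := by
  have h2 : (2 : ℂ) • w = 0 := by rw [two_smul, h]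
  exact (smul_eq_zero.1 h2).resolve_left two_ne_zero

/-- the ground state -/
def gr (m : ℕ) : Fin m → ℕ := fun i => i

theorem alt_low {m : ℕ} {Φ : (Fin m → ℕ) → W} (h : Alt Φ) {β : Fin m → ℕ} (hs : ∑ i, β i < ∑ i : Fin m, (i : ℕ)) :
    Φ β = 0 :=
  h.eq_zero_of_not_injective two_tor fun hi => absurd (sum_le_of_injective hi) (by omega)

theorem alt_ground {m : ℕ} {Φ : (Fin m → ℕ) → W} (h : Alt Φ) {β : Fin m → ℕ} (hs : ∑ i, β i = ∑ i : Fin m, (i : ℕ)) :
    Φ β = vac β • Φ (gr m) := by
  by_cases hv : ∃ σ : Equiv.Perm (Fin m), β = fun i => ((σ i : Fin m) : ℕ)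
  · obtain ⟨σ, rfl⟩ := hv
    rw [vac, Finset.sum_eq_single σ (fun τ _ hτ => if_neg fun e => hτ (Equiv.ext fun i => Fin.ext (congrFun e i).symm))
      (fun h => absurd (mem_univ _) h), if_pos rfl]
    exact h σ (gr m)
  · rw [vac, Finset.sum_eq_zero fun σ _ => if_neg fun e => hv ⟨σ, e⟩, zero_smul]
    refine h.eq_zero_of_not_injective two_tor fun hi => hv ?_
    set σ := Tuple.sort β with hσ
    have hst : StrictMono (β ∘ σ) := (Tuple.monotone_sort β).strictMono_of_injective (hi.comp σ.injective)
    have h1 : ∑ i : Fin m, (i : ℕ) = ∑ i, (β ∘ σ) i := ((Equiv.sum_comp σ β).trans hs).symm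
    have h2 := (Finset.sum_eq_sum_iff_of_le fun i _ => strictMono_le hst i).1 h1
    refine ⟨σ⁻¹, funext fun i => ?_⟩
    have := h2 (σ⁻¹ i) (mem_univ _)
    simpa using this.symm

variable {κ : Type*} [Fintype κ] [DecidableEq κ] {m : κ → ℕ}

/-- tuples on all runners -/
abbrev Tup (m : κ → ℕ) := (i : κ) → Fin (m i) → ℕ

theorem all_ground {X : Tup m → W} (hX : ∀ β i, Alt fun γ => X (Function.update β i γ)) {β : Tup m}
    (hs : ∀ i, ∑ j, β i j = ∑ j : Fin (m i), (j : ℕ)) : X β = (∏ i, vac (β i)) • X fun i => gr (m i) := by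
  have key : ∀ s : Finset κ, X β = (∏ i ∈ s, vac (β i)) • X fun i => if i ∈ s then gr (m i) else β i := by
    intro s
    induction s using Finset.induction_on with
    | empty => simp
    | insert a s ha ih =>
      have h1 := alt_ground (hX (fun i => if i ∈ s then gr (m i) else β i) a) (hs a)
      have h2 : Function.update (fun i => if i ∈ s then gr (m i) else β i) a (β a) =
          fun i => if i ∈ s then gr (m i) else β i := by
        funext i
        by_cases hi : i = a
        · subst hi; simp [ha]
        · simp [hi]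
      have h3 : Function.update (fun i => if i ∈ s then gr (m i) else β i) a (gr (m a)) =
          fun i => if i ∈ insert a s then gr (m i) else β i := by
        funext i
        by_cases hi : i = a
        · subst hi; simp
        · simp [hi]
      rw [h2, h3] at h1
      rw [ih, h1, Finset.prod_insert ha, smul_smul, mul_comm]
  simpa using key univ

/-- **lowering all beads** -/
theorem multi {X : Tup m → W} (hX : ∀ β i, Alt fun γ => X (Function.update β i γ)) (E : Module.End ℂ W) (ω : κ → ℤ)
    (hE : ∀ β, E (X β) = ∑ i, ω i • ∑ j, if 1 ≤ β i j then X (Function.update β i (dn (β i) j 1)) else 0) (n : ℕ) :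
    ∀ (w : κ → ℕ) (β : Tup m), ∑ i, w i = n → (∀ i, ∑ j, β i j = w i + ∑ j : Fin (m i), (j : ℕ)) →
      (∏ i, ((w i).factorial : ℤ)) • (E ^ n) (X β) =
        (n.factorial * ∏ i, (ω i ^ w i * FM (Multiset.replicate (w i) 1) (β i))) • X fun i => gr (m i) := by
  induction n with
  | zero =>
    intro w β hw hs
    have h0 : ∀ i, w i = 0 := fun i => (Finset.sum_eq_zero_iff.1 hw) i (mem_univ _)
    simp only [h0, zero_add] at hs
    simp [h0, all_ground hX hs]
  | succ n ih =>
    intro w β hw hs
    have step : ∀ i, (∏ i, ((w i).factorial : ℤ)) • (E ^ n) (ω i • ∑ j, if 1 ≤ β i j then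
        X (Function.update β i (dn (β i) j 1)) else 0) = (w i : ℤ) • ((n.factorial : ℤ) *
          ∏ i, (ω i ^ w i * FM (Multiset.replicate (w i) 1) (β i))) • X fun i => gr (m i) := by
      intro i
      obtain h0 | ⟨k, hk⟩ : w i = 0 ∨ ∃ k, w i = k + 1 := by cases w i <;> simp
      · rw [h0, Nat.cast_zero, zero_smul, Finset.sum_eq_zero, smul_zero, map_zero, smul_zero]
        intro j _
        split_ifs with hj
        · refine alt_low (hX β i) ?_
          have := sum_dn (β i) j hj
          have := hs i
          omega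
        · rfl
      · have e1 : ∀ f : (i : κ) → ℕ → (Fin (m i) → ℕ) → ℤ, ∀ γ, ∏ a, f a (Function.update w i k a) (Function.update β i γ a) =
            f i k γ * ∏ a ∈ univ.erase i, f a (w a) (β a) := fun f γ => by
          rw [← Finset.mul_prod_erase _ _ (mem_univ i), Function.update_self, Function.update_self]
          congr 1
          exact Finset.prod_congr rfl fun a ha => by
            rw [Function.update_of_ne (Finset.ne_of_mem_erase ha), Function.update_of_ne (Finset.ne_of_mem_erase ha)]
        have e2 : ∀ j, (∏ i, ((w i).factorial : ℤ)) • (E ^ n) (if 1 ≤ β i j then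
            X (Function.update β i (dn (β i) j 1)) else 0) = ((w i : ℤ) * n.factorial * ω i ^ k *
              (∏ a ∈ univ.erase i, ω a ^ w a * FM (Multiset.replicate (w a) 1) (β a)) *
              if 1 ≤ β i j then FM (Multiset.replicate k 1) (dn (β i) j 1) else 0) • X fun i => gr (m i) := by
          intro j
          split_ifs with hj
          · have h1 := ih (Function.update w i k) (Function.update β i (dn (β i) j 1))
              (by
                rw [Finset.sum_update_of_mem (mem_univ i), Finset.sdiff_singleton_eq_erase]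
                rw [← Finset.add_sum_erase _ _ (mem_univ i)] at hw
                omega)
              (fun a => by
                by_cases ha : a = i
                · subst ha
                  rw [Function.update_self, Function.update_self]
                  have := sum_dn (β a) j hj
                  have := hs a
                  omega
                · rw [Function.update_of_ne ha, Function.update_of_ne ha]; exact hs a)
            rw [e1 (fun a x γ => ω a ^ x * FM (Multiset.replicate x 1) γ), e1 (fun _ x _ => (x.factorial : ℤ)) (β i)] at h1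
            rw [← Finset.mul_prod_erase _ _ (mem_univ i), hk, Nat.factorial_succ, Nat.cast_mul, mul_assoc, mul_smul, h1,
              smul_smul]
            congr 1
            ring
          · simp
        rw [map_zsmul, map_sum, smul_comm, Finset.smul_sum, Finset.sum_congr rfl fun j _ => e2 j, ← Finset.sum_smul,
          ← Finset.mul_sum, ← FM_cons, ← Multiset.replicate_succ, smul_smul, smul_smul,
          ← Finset.mul_prod_erase _ (fun i => ω i ^ w i * FM (Multiset.replicate (w i) 1) (β i)) (mem_univ i), hk]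
        congr 1
        ring
    rw [pow_succ, Module.End.mul_apply, hE, map_sum, Finset.smul_sum, Finset.sum_congr rfl fun i _ => step i,
      ← Finset.sum_smul, ← Nat.cast_sum, hw, smul_smul, Nat.factorial_succ]
    congr 1
    push_cast
    ring

/-- the coefficient is a unit at the large primes -/
theorem multi_unit {X : Tup m → W} (hX : ∀ β i, Alt fun γ => X (Function.update β i γ)) (E : Module.End ℂ W) (ω : κ → ℤ)
    (hE : ∀ β, E (X β) = ∑ i, ω i • ∑ j, if 1 ≤ β i j then X (Function.update β i (dn (β i) j 1)) else 0)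
    {w : κ → ℕ} {β : Tup m} (hβ : ∀ i, Function.Injective (β i))
    (hs : ∀ i, ∑ j, β i j = w i + ∑ j : Fin (m i), (j : ℕ)) :
    ∃ N : ℤ, (E ^ ∑ i, w i) (X β) = N • X (fun i => gr (m i)) ∧
      ∀ p : ℕ, p.Prime → ∑ i, w i < p → (∀ i, ¬ (p : ℤ) ∣ ω i) → ¬ (p : ℤ) ∣ N := by
  have h := multi hX E ω hE _ w β rfl hs
  refine ⟨Nat.multinomial univ w * ∏ i, (ω i ^ w i * FM (Multiset.replicate (w i) 1) (β i)), ?_, fun p hp h1 h2 h3 => ?_⟩
  · rw [← Nat.multinomial_spec, Nat.cast_mul, Nat.cast_prod, mul_assoc, mul_smul] at h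
    have h0 : ((∏ i, ((w i).factorial : ℤ) : ℤ) : ℂ) ≠ 0 := by
      exact_mod_cast Finset.prod_ne_zero_iff.2 fun i _ => Nat.factorial_ne_zero _
    rw [← Int.cast_smul_eq_zsmul ℂ, ← Int.cast_smul_eq_zsmul ℂ (∏ i, ((w i).factorial : ℤ))] at h
    exact smul_right_injective W h0 h
  · have hp' : Prime (p : ℤ) := Nat.prime_iff_prime_int.1 hp
    have hf : ∀ k ≤ ∑ i, w i, ¬ (p : ℤ) ∣ k.factorial := fun k hk h =>
      absurd (hp.dvd_factorial.1 (Int.natCast_dvd_natCast.1 h)) (by omega)
    rcases hp'.dvd_or_dvd h3 with h4 | h4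
    · refine hf _ le_rfl (h4.trans ?_)
      rw [← Nat.multinomial_spec, Nat.cast_mul]
      exact dvd_mul_left _ _
    · obtain ⟨i, -, h5⟩ := (Prime.dvd_finsetProd_iff hp' _).1 h4
      rcases hp'.dvd_or_dvd h5 with h6 | h6
      · exact h2 i (hp'.dvd_of_dvd_pow h6)
      · exact hf _ (Finset.single_le_sum (f := w) (fun _ _ => Nat.zero_le _) (mem_univ i)) (h6.trans (ones_dvd (hβ i) (hs i)))

end Cfsg.Agent.PQ.Val
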